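import Mathlib

/-!
# Partitions of groups

A partition is given by the component of each element; it may be assumed invariant under
conjugation.  Two commuting elements of different components have the same prime order.
-/

set_option autoImplicit false
set_option linter.unusedSectionVars false
set_option linter.style.haveILetI false

namespace CfsgLib.Partition

variable {G : Type*} [Group G]

/-- A non-trivial partition invariant under conjugation. -/
structure Part (G : Type*) [Group G] where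
  comp : G → Subgroup G
  mem : ∀ g, g ∈ comp g
  eq : ∀ g h, g ≠ 1 → h ≠ 1 → h ∈ comp g → comp h = comp g
  proper : ∀ g, g ≠ 1 → comp g ≠ ⊤
  conj : ∀ x g, g ≠ 1 → comp (x * g * x⁻¹) = (comp g).map (MulAut.conj x).toMonoidHom

theorem mem_map_conj {K : Subgroup G} {x y : G} :
    y ∈ K.map (MulAut.conj x).toMonoidHom ↔ x⁻¹ * y * x ∈ K := by
  constructor
  · rintro ⟨k, hk, rfl⟩
    simpa [mul_assoc] using hk
  · exact fun h => ⟨_, h, by simp [mul_assoc]⟩

/-- The conjugate components cut down to one invariant partition. -/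
theorem exists_part (S : Set (Subgroup G)) (hS2 : ∃ H ∈ S, ∃ K ∈ S, H ≠ K) (hS1 : ∀ H ∈ S, H ≠ ⊥)
    (hpart : ∀ g : G, g ≠ 1 → ∃! H : Subgroup G, H ∈ S ∧ g ∈ H) : Nonempty (Part G) := by
  classical
  have htop : ∀ H ∈ S, H ≠ ⊤ := by
    intro H hH hT
    obtain ⟨A, hA, B, hB, hAB⟩ := hS2
    have key : ∀ C ∈ S, C = H := by
      intro C hC
      obtain ⟨⟨c, hc⟩, hc1⟩ := Subgroup.ne_bot_iff_exists_ne_one.1 (hS1 C hC)
      have hc1' : c ≠ 1 := fun e => hc1 (Subtype.ext e)
      exact (hpart c hc1').unique ⟨hC, hc⟩ ⟨hH, hT ▸ Subgroup.mem_top c⟩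
    exact hAB ((key A hA).trans (key B hB).symm)
  have hex : ∀ g : G, g ≠ 1 → ∃ H, H ∈ S ∧ g ∈ H := fun g hg => (hpart g hg).exists
  let c : G → Subgroup G := fun g => if h : g ≠ 1 then (hex g h).choose else ⊤
  have hcm : ∀ g, g ∈ c g := fun g => by
    by_cases h : g ≠ 1
    · simp only [c, dif_pos h]; exact (hex g h).choose_spec.2
    · simp only [c, dif_neg h]; exact Subgroup.mem_top g
  have hcS : ∀ g, g ≠ 1 → c g ∈ S := fun g h => by
    simp only [c, dif_pos h]; exact (hex g h).choose_spec.1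
  have hce : ∀ g h, g ≠ 1 → h ≠ 1 → h ∈ c g → c h = c g := fun g h hg hh hm =>
    (hpart h hh).unique ⟨hcS h hh, hcm h⟩ ⟨hcS g hg, hm⟩
  let U : G → Subgroup G := fun g => ⨅ x : G, (c (x * g * x⁻¹)).comap (MulAut.conj x).toMonoidHom
  have hU : ∀ g y, y ∈ U g ↔ ∀ x : G, x * y * x⁻¹ ∈ c (x * g * x⁻¹) := fun g y => by
    simp [U, Subgroup.mem_iInf]
  have hne : ∀ {g : G} (x : G), g ≠ 1 → x * g * x⁻¹ ≠ 1 := fun x hg e => hg (conj_eq_one_iff.1 e)
  refine ⟨{ comp := U, mem := fun g => (hU g g).2 fun x => hcm _, eq := ?_, proper := ?_, conj := ?_ }⟩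
  · intro g h hg hh hm
    ext y
    rw [hU, hU]
    refine forall_congr' fun x => ?_
    rw [hce _ _ (hne x hg) (hne x hh) ((hU g h).1 hm x)]
  · intro g hg h
    refine htop _ (hcS g hg) (eq_top_iff.2 fun y _ => ?_)
    have := (hU g y).1 (h ▸ Subgroup.mem_top y) 1
    simpa using this
  · intro x g hg
    ext y
    rw [mem_map_conj, hU, hU]
    constructor
    · intro h z
      have := h (z * x⁻¹)
      simpa [mul_assoc] using this
    · intro h z
      have := h (z * x)
      simpa [mul_assoc] using this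

namespace Part

variable (P : Part G)

theorem conj_mem (x : G) {g y : G} (hg : g ≠ 1) (hy : y ∈ P.comp g) :
    x * y * x⁻¹ ∈ P.comp (x * g * x⁻¹) := by
  rw [P.conj x g hg, mem_map_conj]
  simpa [mul_assoc] using hy

/-- An element carrying one non-trivial element of a component into it normalizes the component. -/
theorem mem_normalizer {x g h : G} (hg : g ≠ 1) (hh : h ∈ P.comp g) (hh1 : h ≠ 1)
    (hx : x * h * x⁻¹ ∈ P.comp g) : x ∈ Subgroup.normalizer (P.comp g : Set G) := by
  refine Subgroup.mem_normalizer_iff_map_conj_eq.2 ?_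
  have := P.conj x h hh1
  rw [P.eq g h hg hh1 hh, P.eq g _ hg (fun e => hh1 (conj_eq_one_iff.1 e)) hx] at this
  exact this.symm

/-- A component meets its other conjugates trivially. -/
theorem eq_one_of_conj_mem {x g h : G} (hg : g ≠ 1) (hh : h ∈ P.comp g)
    (hx : x * h * x⁻¹ ∈ P.comp g) (hn : x ∉ Subgroup.normalizer (P.comp g : Set G)) : h = 1 :=
  by_contra fun hh1 => hn (P.mem_normalizer hg hh hh1 hx)

theorem mem_normalizer_of_commute {x g h : G} (hg : g ≠ 1) (hh : h ∈ P.comp g) (hh1 : h ≠ 1)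
    (hc : Commute x h) : x ∈ Subgroup.normalizer (P.comp g : Set G) :=
  P.mem_normalizer hg hh hh1 (by rwa [hc.eq, mul_inv_cancel_right])

theorem mem_normalizer_self {x g : G} (hg : g ≠ 1) (hc : Commute x g) :
    x ∈ Subgroup.normalizer (P.comp g : Set G) :=
  P.mem_normalizer_of_commute hg (P.mem g) hg hc

theorem mem_comp_symm {g h : G} (hg : g ≠ 1) (hh : h ≠ 1) (hm : h ∈ P.comp g) : g ∈ P.comp h := by
  rw [P.eq g h hg hh hm]; exact P.mem g

theorem pow_mem_comp (g : G) (k : ℕ) : g ^ k ∈ P.comp g := pow_mem (P.mem g) k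

theorem comp_pow {g : G} {k : ℕ} (hg : g ^ k ≠ 1) : P.comp (g ^ k) = P.comp g :=
  P.eq g _ (fun e => hg (by rw [e, one_pow])) hg (P.pow_mem_comp g k)

/-- Commuting elements of different components have the same prime order. -/
theorem orderOf_of_commute [Finite G] {x y : G} (hx : x ≠ 1) (hy : y ≠ 1) (hc : Commute x y)
    (hne : y ∉ P.comp x) : (orderOf x).Prime ∧ orderOf y = orderOf x := by
  have key : ∀ a b : G, a ≠ 1 → b ≠ 1 → Commute a b → b ∉ P.comp a → ∀ k, a ^ k = 1 → b ^ k = 1 := by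
    intro a b ha hb hab hne k hk
    by_contra hbk
    have hxy : a * b ≠ 1 := fun e => hne ((eq_inv_of_mul_eq_one_right e) ▸ inv_mem (P.mem a))
    have h1 : (a * b) ^ k = b ^ k := by rw [hab.mul_pow, hk, one_mul]
    have h2 : P.comp (a * b) = P.comp b := by
      rw [← P.comp_pow (g := a * b) (k := k) (by rw [h1]; exact hbk), h1, P.comp_pow hbk]
    have h3 : a ∈ P.comp b := by
      have h4 : a * b ∈ P.comp b := h2 ▸ P.mem (a * b)
      simpa using mul_mem h4 (inv_mem (P.mem b))
    exact hne (P.mem_comp_symm hb ha h3)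
  have hne' : x ∉ P.comp y := fun h => hne (P.mem_comp_symm hy hx h)
  have heq : orderOf y = orderOf x := Nat.dvd_antisymm
    (orderOf_dvd_of_pow_eq_one (key x y hx hy hc hne _ (pow_orderOf_eq_one x)))
    (orderOf_dvd_of_pow_eq_one (key y x hy hx hc.symm hne' _ (pow_orderOf_eq_one y)))
  refine ⟨?_, heq⟩
  have hn1 : orderOf x ≠ 1 := fun e => hx (orderOf_eq_one_iff.1 e)
  obtain ⟨q, hq, hqd⟩ := Nat.exists_prime_and_dvd hn1
  obtain ⟨k, hk⟩ := hqd
  have hk0 : k ≠ 0 := fun e => by
    rw [e, mul_zero] at hk; exact (orderOf_pos x).ne' hk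
  have hxk : x ^ k ≠ 1 := fun e => by
    have h := Nat.le_of_dvd (Nat.pos_of_ne_zero hk0) (orderOf_dvd_of_pow_eq_one e)
    have := hq.two_le
    rw [hk] at h
    nlinarith [Nat.pos_of_ne_zero hk0]
  have hne2 : y ∉ P.comp (x ^ k) := by rw [P.comp_pow hxk]; exact hne
  have h1 : (x ^ k) ^ q = 1 := by rw [← pow_mul, mul_comm, ← hk, pow_orderOf_eq_one]
  have h2 := key (x ^ k) y hxk hy (hc.pow_left k) hne2 q h1
  haveI := Fact.mk hq
  rw [← heq, orderOf_eq_prime h2 hy]
  exact hq

/-- Commuting elements of different orders lie in one component. -/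
theorem mem_of_commute [Finite G] {x y : G} (hx : x ≠ 1) (hc : Commute x y)
    (ho : orderOf y ≠ orderOf x) : y ∈ P.comp x := by
  by_cases hy : y = 1
  · exact hy ▸ one_mem _
  by_contra h
  exact ho (P.orderOf_of_commute hx hy hc h).2

theorem mem_of_commute_not_prime [Finite G] {x y : G} (hx : x ≠ 1) (hc : Commute x y)
    (ho : ¬ (orderOf x).Prime) : y ∈ P.comp x := by
  by_cases hy : y = 1
  · exact hy ▸ one_mem _
  by_contra h
  exact ho (P.orderOf_of_commute hx hy hc h).1

/-- The induced partition of a subgroup lying in no component. -/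
def restrict (M : Subgroup G) (hM : ∀ g ∈ M, g ≠ 1 → ¬ M ≤ P.comp g) : Part M where
  comp m := (P.comp (m : G)).subgroupOf M
  mem m := P.mem (m : G)
  eq g h hg hh hm := by
    rw [P.eq (g : G) (h : G) (fun e => hg (Subtype.ext e)) (fun e => hh (Subtype.ext e)) hm]
  proper g hg h := hM g g.2 (fun e => hg (Subtype.ext e)) (Subgroup.subgroupOf_eq_top.1 h)
  conj x g hg := by
    ext y
    rw [mem_map_conj, Subgroup.mem_subgroupOf, Subgroup.mem_subgroupOf, Subgroup.coe_mul,
      Subgroup.coe_mul, Subgroup.coe_inv, P.conj (x : G) (g : G) (fun e => hg (Subtype.ext e)),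
      mem_map_conj]
    simp

end Part

end CfsgLib.Partition
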