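import Mathlib
import Cfsg.Agent.Lib.ZStar.Recognize

/-!
# Groups whose elements of order prime to `p` act without fixed points

On an elementary abelian `p`-group: if there are no elements of mixed order and no element of order
`p` normalizes a subgroup of another prime order, the Sylow `p`-subgroup is normal.
-/

set_option autoImplicit false
set_option linter.unusedSectionVars false
set_option linter.style.haveILetI false

open scoped BigOperators

namespace CfsgLib.Partition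

universe u

variable {Γ : Type u} [Group Γ] {A : Type*} [CommGroup A]

theorem act_prod_range (ρ : Γ →* MulAut A) {g : Γ} {n : ℕ} (hg : g ^ n = 1) (a : A) :
    ρ g (∏ i ∈ Finset.range n, ρ (g ^ i) a) = ∏ i ∈ Finset.range n, ρ (g ^ i) a := by
  rcases n with - | n
  · simp
  rw [map_prod]
  conv_lhs => rw [Finset.prod_range_succ]
  conv_rhs => rw [Finset.prod_range_succ']
  congr 1
  · refine Finset.prod_congr rfl fun i _ => ?_
    rw [pow_succ', map_mul, MulAut.mul_apply]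
  · rw [← MulAut.mul_apply, ← map_mul, ← pow_succ', hg, pow_zero]

theorem prod_zpowers_eq_one [Finite Γ] (ρ : Γ →* MulAut A) {d : Γ} (hd : ∀ a, ρ d a = a → a = 1)
    [Fintype (Subgroup.zpowers d)] (b : A) : ∏ e : Subgroup.zpowers d, ρ (e : Γ) b = 1 := by
  refine hd _ ?_
  rw [map_prod]
  conv_rhs => rw [← Equiv.prod_comp (Equiv.mulLeft (⟨d, Subgroup.mem_zpowers d⟩ : Subgroup.zpowers d))]
  refine Finset.prod_congr rfl fun e _ => ?_
  rw [Equiv.coe_mulLeft, Subgroup.coe_mul, map_mul, MulAut.mul_apply]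

/-- An element of prime order normalizing but not centralizing a fixed-point-free subgroup of prime
order has non-trivial trace. -/
theorem exists_trace_ne [Finite Γ] (ρ : Γ →* MulAut A) {x d : Γ} (hx : (orderOf x).Prime)
    (hd : (orderOf d).Prime) (hn : x * d * x⁻¹ ∈ Subgroup.zpowers d) (hc : ¬ Commute x d)
    (hfix : ∀ a, ρ d a = a → a = 1) (hq : ∀ a : A, a ^ orderOf d = 1 → a = 1) {a₀ : A} (ha₀ : a₀ ≠ 1) :
    ∃ a, ∏ i ∈ Finset.range (orderOf x), ρ (x ^ i) a ≠ 1 := by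
  classical
  by_contra! hall
  haveI := Fintype.ofFinite (Subgroup.zpowers d)
  have hnorm : ∀ i : ℕ, ∀ e ∈ Subgroup.zpowers d, x ^ i * e * (x ^ i)⁻¹ ∈ Subgroup.zpowers d := by
    intro i
    induction i with
    | zero => simp
    | succ i ih =>
      intro e he
      obtain ⟨k, rfl⟩ := Subgroup.mem_zpowers_iff.1 he
      rw [show x ^ (i + 1) * d ^ k * (x ^ (i + 1))⁻¹ = x ^ i * (x * d ^ k * x⁻¹) * (x ^ i)⁻¹ by
        rw [pow_succ]; group]
      refine ih _ ?_
      rw [← conj_zpow]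
      exact Subgroup.zpow_mem _ hn k
  have hinner : ∀ i, i ≠ 0 → i < orderOf x →
      ∏ e : Subgroup.zpowers d, ρ ((e : Γ) * x ^ i * (e : Γ)⁻¹) a₀ = 1 := by
    intro i hi hlt
    let f : Subgroup.zpowers d → Subgroup.zpowers d := fun e =>
      ⟨(e : Γ) * (x ^ i * (e : Γ)⁻¹ * (x ^ i)⁻¹), mul_mem e.2 (hnorm i _ (inv_mem e.2))⟩
    have hf : Function.Bijective f := by
      rw [← Finite.injective_iff_bijective]
      intro e e' h
      have h' : (e : Γ) * (x ^ i * (e : Γ)⁻¹ * (x ^ i)⁻¹) = e' * (x ^ i * (e' : Γ)⁻¹ * (x ^ i)⁻¹) :=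
        congrArg Subtype.val h
      have hcw : Commute ((e' : Γ)⁻¹ * e) (x ^ i) := by
        have h2 : (e' : Γ)⁻¹ * e * x ^ i = x ^ i * ((e' : Γ)⁻¹ * e) := by
          calc (e' : Γ)⁻¹ * e * x ^ i
              = (e' : Γ)⁻¹ * ((e : Γ) * (x ^ i * (e : Γ)⁻¹ * (x ^ i)⁻¹)) * (x ^ i * e) := by group
            _ = (e' : Γ)⁻¹ * (e' * (x ^ i * (e' : Γ)⁻¹ * (x ^ i)⁻¹)) * (x ^ i * e) := by rw [h']
            _ = _ := by group
        exact h2
      by_contra hne
      have hw : (e' : Γ)⁻¹ * e ≠ 1 := fun hh => hne (Subtype.ext (inv_mul_eq_one.1 hh).symm)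
      apply hc
      have hdw : d ∈ Subgroup.zpowers ((e' : Γ)⁻¹ * e) := by
        have hle : Subgroup.zpowers ((e' : Γ)⁻¹ * e) ≤ Subgroup.zpowers d :=
          Subgroup.zpowers_le.2 (mul_mem (inv_mem e'.2) e.2)
        have hcd : Nat.card (Subgroup.zpowers ((e' : Γ)⁻¹ * e)) = Nat.card (Subgroup.zpowers d) := by
          rw [Nat.card_zpowers, Nat.card_zpowers]
          have hdd := Subgroup.card_dvd_of_le hle
          rw [Nat.card_zpowers, Nat.card_zpowers] at hdd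
          exact ((Nat.dvd_prime hd).1 hdd).resolve_left fun h1 => hw (orderOf_eq_one_iff.1 h1)
        rw [Subgroup.eq_of_le_of_card_ge hle hcd.ge]
        exact Subgroup.mem_zpowers d
      have hxw : x ∈ Subgroup.zpowers (x ^ i) := by
        have hco : i.Coprime (orderOf x) :=
          ((Nat.Prime.coprime_iff_not_dvd hx).2 fun hh =>
            absurd (Nat.le_of_dvd (Nat.pos_of_ne_zero hi) hh) (by omega)).symm
        obtain ⟨j, hj⟩ := exists_pow_eq_self_of_coprime hco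
        exact Subgroup.mem_zpowers_iff.2 ⟨(j : ℤ), by rw [zpow_natCast, hj]⟩
      obtain ⟨k, hk⟩ := Subgroup.mem_zpowers_iff.1 hdw
      obtain ⟨l, hl⟩ := Subgroup.mem_zpowers_iff.1 hxw
      rw [← hk, ← hl]
      exact (hcw.symm.zpow_left l).zpow_right k
    calc ∏ e : Subgroup.zpowers d, ρ ((e : Γ) * x ^ i * (e : Γ)⁻¹) a₀
        = ∏ e : Subgroup.zpowers d, ρ (f e : Γ) (ρ (x ^ i) a₀) := by
          refine Finset.prod_congr rfl fun e _ => ?_
          rw [← MulAut.mul_apply, ← map_mul]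
          congr 2
          show (e : Γ) * x ^ i * (e : Γ)⁻¹ = (e : Γ) * (x ^ i * (e : Γ)⁻¹ * (x ^ i)⁻¹) * x ^ i
          group
      _ = ∏ e : Subgroup.zpowers d, ρ (e : Γ) (ρ (x ^ i) a₀) :=
          hf.prod_comp (fun e => ρ (e : Γ) (ρ (x ^ i) a₀))
      _ = 1 := prod_zpowers_eq_one ρ hfix _
  have htot : ∏ e : Subgroup.zpowers d,
      ∏ i ∈ Finset.range (orderOf x), ρ ((e : Γ) * x ^ i * (e : Γ)⁻¹) a₀ = 1 := by
    refine Finset.prod_eq_one fun e _ => ?_
    have := congrArg (ρ (e : Γ)) (hall (ρ (e : Γ)⁻¹ a₀))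
    rw [map_prod, map_one] at this
    simpa [map_mul, MulAut.mul_apply] using this
  rw [Finset.prod_comm, Finset.prod_eq_single_of_mem 0 (Finset.mem_range.2 hx.pos)
    (fun i hi hi0 => hinner i hi0 (Finset.mem_range.1 hi))] at htot
  refine ha₀ (hq a₀ ?_)
  simpa [Finset.prod_const, Finset.card_univ, ← Nat.card_eq_fintype_card, Nat.card_zpowers] using htot

/-- No fixed-point-free elementary abelian group of order `q²`. -/
theorem mem_zpowers_of_fpf [Finite Γ] (ρ : Γ →* MulAut A) {d e : Γ} {q : ℕ} (hq : q.Prime)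
    (hd : d ^ q = 1) (hd1 : d ≠ 1) (he : e ^ q = 1) (hde : Commute e d)
    (hfix : ∀ g : Γ, g ≠ 1 → g ^ q = 1 → ∀ a, ρ g a = a → a = 1)
    (hqA : ∀ a : A, a ^ q = 1 → a = 1) {a₀ : A} (ha₀ : a₀ ≠ 1) : e ∈ Subgroup.zpowers d := by
  classical
  by_contra hne
  haveI := Fintype.ofFinite (Subgroup.zpowers d)
  haveI := Fact.mk hq
  have hod : orderOf d = q := orderOf_eq_prime hd hd1
  have hline : ∀ k : Subgroup.zpowers d,
      ∏ j ∈ Finset.range q, ρ ((e * k) ^ j) a₀ = 1 := by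
    intro k
    obtain ⟨l, hl⟩ := Subgroup.mem_zpowers_iff.1 k.2
    have hkc : Commute e (k : Γ) := hl ▸ hde.zpow_right l
    have hk : (e * k) ^ q = 1 := by
      rw [hkc.mul_pow, he, one_mul, ← hl, ← zpow_natCast, ← zpow_mul, mul_comm, zpow_mul,
        zpow_natCast, hd, one_zpow]
    refine hfix (e * k) (fun h => hne ?_) hk _ (act_prod_range ρ hk a₀)
    rw [eq_inv_of_mul_eq_one_left h]
    exact inv_mem k.2
  have htot : ∏ k : Subgroup.zpowers d, ∏ j ∈ Finset.range q, ρ ((e * k) ^ j) a₀ = 1 :=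
    Finset.prod_eq_one fun k _ => hline k
  rw [Finset.prod_comm, Finset.prod_eq_single_of_mem 0 (Finset.mem_range.2 hq.pos)] at htot
  · refine ha₀ (hqA a₀ ?_)
    simpa [Finset.prod_const, Finset.card_univ, ← Nat.card_eq_fintype_card, Nat.card_zpowers, hod] using htot
  intro j hj hj0
  have hco : (Nat.card (Subgroup.zpowers d)).Coprime j := by
    rw [Nat.card_zpowers, hod, hq.coprime_iff_not_dvd]
    intro h
    exact absurd (Nat.le_of_dvd (Nat.pos_of_ne_zero hj0) h) (by have := Finset.mem_range.1 hj; omega)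
  calc ∏ k : Subgroup.zpowers d, ρ ((e * k) ^ j) a₀
      = ρ (e ^ j) (∏ k : Subgroup.zpowers d, ρ ((powCoprime hco k : Subgroup.zpowers d) : Γ) a₀) := by
        rw [map_prod]
        refine Finset.prod_congr rfl fun k _ => ?_
        obtain ⟨l, hl⟩ := Subgroup.mem_zpowers_iff.1 k.2
        rw [(hl ▸ hde.zpow_right l : Commute e (k : Γ)).mul_pow, map_mul, MulAut.mul_apply]
        rfl
    _ = 1 := by
        rw [Equiv.prod_comp (powCoprime hco) (fun k : Subgroup.zpowers d => ρ (k : Γ) a₀),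
          prod_zpowers_eq_one ρ (hfix d hd1 hd), map_one]

/-- A fixed-point-free involution inverts. -/
theorem invert_of_fpf (ρ : Γ →* MulAut A) {z : Γ} (hz : z * z = 1) (hfix : ∀ a, ρ z a = a → a = 1)
    (a : A) : ρ z a = a⁻¹ := by
  refine eq_inv_of_mul_eq_one_right (hfix _ ?_)
  rw [map_mul, ← MulAut.mul_apply, ← map_mul, hz, map_one, MulAut.one_apply, mul_comm]

/-- The hypotheses on the action. -/
structure SemiFpf (p : ℕ) (ρ : Γ →* MulAut A) : Prop where
  fpf : ∀ γ : Γ, γ ≠ 1 → ¬ p ∣ orderOf γ → ∀ a, ρ γ a = a → a = 1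
  mix : ∀ γ : Γ, p ∣ orderOf γ → ∃ k, orderOf γ = p ^ k
  nonorm : ∀ x d : Γ, orderOf x = p → (orderOf d).Prime → orderOf d ≠ p →
    x * d * x⁻¹ ∈ Subgroup.zpowers d → ¬ Commute x d → False

theorem SemiFpf.comp {Δ : Type u} [Group Δ] {p : ℕ} {ρ : Γ →* MulAut A} (h : SemiFpf p ρ)
    (f : Δ →* Γ) (hf : Function.Injective f) : SemiFpf p (ρ.comp f) where
  fpf γ hγ ho := h.fpf (f γ) (fun e => hγ (hf (e.trans (map_one f).symm)))
    (by rwa [orderOf_injective f hf])
  mix γ ho := by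
    rw [← orderOf_injective f hf] at ho ⊢
    exact h.mix _ ho
  nonorm x d hx hd hne hn hc := by
    refine h.nonorm (f x) (f d) (by rwa [orderOf_injective f hf]) (by rwa [orderOf_injective f hf])
      (by rwa [orderOf_injective f hf]) ?_ fun e => hc (hf (by rw [map_mul, map_mul]; exact e.eq))
    obtain ⟨k, hk⟩ := Subgroup.mem_zpowers_iff.1 hn
    exact Subgroup.mem_zpowers_iff.2 ⟨k, by rw [← map_zpow, hk]; simp⟩

section

variable [Finite Γ] {p : ℕ} [hpf : Fact p.Prime] {ρ : Γ →* MulAut A}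

theorem pow_eq_one_iff_coprime (hA : ∀ a : A, a ^ p = 1) {q : ℕ} (hq : q.Prime) (hqp : q ≠ p) {a : A}
    (h : a ^ q = 1) : a = 1 := by
  have := pow_gcd_eq_one.mpr ⟨h, hA a⟩
  rwa [(Nat.coprime_primes hq hpf.out).2 hqp, pow_one] at this

/-- With an involution: the Sylow `p`-subgroup is the kernel. -/
theorem SemiFpf.of_involution (h : SemiFpf p ρ) (hA : ∀ a : A, a ^ p = 1) {a₀ : A} (ha₀ : a₀ ≠ 1)
    (hp2 : p ≠ 2) {z : Γ} (hz : orderOf z = 2) :
    ∃ R : Subgroup Γ, R.Normal ∧ IsPGroup p R ∧ ¬ p ∣ R.index := by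
  classical
  obtain ⟨hzz, hz1⟩ : z * z = 1 ∧ z ≠ 1 := by
    rw [orderOf_eq_prime_iff, pow_two] at hz; exact hz
  have hnd : ¬ p ∣ orderOf z := by
    rw [hz]; exact fun hd => hp2 ((Nat.prime_dvd_prime_iff_eq hpf.out Nat.prime_two).1 hd)
  have hinv := invert_of_fpf ρ hzz (h.fpf z hz1 hnd)
  have hK : IsPGroup p ρ.ker := by
    rw [IsPGroup.iff_orderOf]
    intro g
    rw [← Subgroup.orderOf_coe]
    by_cases hg : (g : Γ) = 1
    · exact ⟨0, by rw [hg, orderOf_one, pow_zero]⟩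
    by_cases hd : p ∣ orderOf (g : Γ)
    · exact h.mix _ hd
    · exact absurd (h.fpf _ hg hd a₀ (by rw [MonoidHom.mem_ker.1 g.2, MulAut.one_apply])) ha₀
  refine ⟨ρ.ker, inferInstance, hK, ?_⟩
  obtain ⟨P, hP⟩ := hK.exists_le_sylow
  suffices hPK : (P : Subgroup Γ) ≤ ρ.ker by
    rw [le_antisymm hP hPK]; exact P.not_dvd_index
  intro y hy
  by_contra hyK
  have hcomm : ρ (y⁻¹ * z * y * z⁻¹) = 1 := by
    have hzi : z⁻¹ = z := inv_eq_of_mul_eq_one_right hzz
    refine MulEquiv.ext fun a => ?_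
    rw [hzi, map_mul, map_mul, map_mul, MulAut.mul_apply, MulAut.mul_apply, MulAut.mul_apply, hinv,
      hinv, map_inv (ρ y), inv_inv, ← MulAut.mul_apply, ← map_mul, inv_mul_cancel, map_one]
  have hstab : ∀ k : ρ.ker, y⁻¹ * (z * (y * (k : Γ)) * z⁻¹) ∈ ρ.ker := fun k => by
    have hh : z * (k : Γ) * z⁻¹ ∈ ρ.ker := Subgroup.Normal.conj_mem inferInstance _ k.2 z
    rw [show y⁻¹ * (z * (y * (k : Γ)) * z⁻¹) = (y⁻¹ * z * y * z⁻¹) * (z * (k : Γ) * z⁻¹) by group]
    exact mul_mem (MonoidHom.mem_ker.2 hcomm) hh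
  let f : ρ.ker → ρ.ker := fun k => ⟨_, hstab k⟩
  have hff : Function.Involutive f := fun k => Subtype.ext <| by
    show y⁻¹ * (z * (y * (y⁻¹ * (z * (y * (k : Γ)) * z⁻¹))) * z⁻¹) = k
    calc _ = y⁻¹ * ((z * z) * (y * (k : Γ)) * (z * z)⁻¹) := by group
      _ = k := by rw [hzz]; group
  haveI := Fintype.ofFinite ρ.ker
  have hodd : ¬ 2 ∣ Fintype.card ρ.ker := by
    obtain ⟨n, hn⟩ := hK.exists_card_eq
    rw [← Nat.card_eq_fintype_card, hn]
    intro hd
    exact hp2 ((Nat.prime_dvd_prime_iff_eq Nat.prime_two hpf.out).1 (Nat.prime_two.dvd_of_dvd_pow hd)).symm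
  haveI : Fact (Nat.Prime 2) := ⟨Nat.prime_two⟩
  obtain ⟨k, hk⟩ := Equiv.Perm.exists_fixed_point_of_prime hodd (σ := hff.toPerm) (n := 1)
    (Equiv.ext fun k => by simp [pow_two, hff k])
  set w := y * (k : Γ) with hw
  have hcw : Commute z w := by
    have e : y⁻¹ * (z * w * z⁻¹) = (k : Γ) := congrArg Subtype.val hk
    have e2 : z * w * z⁻¹ = w := by
      calc z * w * z⁻¹ = y * (y⁻¹ * (z * w * z⁻¹)) := by group
        _ = w := by rw [e]
    exact mul_inv_eq_iff_eq_mul.1 e2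
  have hwK : w ∉ ρ.ker := fun hh => hyK (by
    have := mul_mem hh (inv_mem k.2); simpa [hw] using this)
  have hwP : w ∈ (P : Subgroup Γ) := mul_mem hy (hP k.2)
  obtain ⟨m, hm⟩ := IsPGroup.iff_orderOf.1 P.2 ⟨w, hwP⟩
  rw [← Subgroup.orderOf_coe] at hm
  change orderOf w = p ^ m at hm
  have hm0 : m ≠ 0 := fun e => hwK (by
    rw [e, pow_zero, orderOf_eq_one_iff] at hm
    rw [hm]; exact one_mem _)
  have hzw : orderOf (z * w) = 2 * p ^ m := by
    rw [hcw.orderOf_mul_eq_mul_orderOf_of_coprime (by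
      rw [hz, hm]; exact ((Nat.coprime_primes Nat.prime_two hpf.out).2 (Ne.symm hp2)).pow_right m), hz, hm]
  obtain ⟨l, hl⟩ := h.mix (z * w) (hzw ▸ Dvd.dvd.mul_left (dvd_pow_self p hm0) 2)
  rw [hzw] at hl
  have : 2 ∣ p ^ l := hl ▸ dvd_mul_right 2 _
  exact hp2 ((Nat.prime_dvd_prime_iff_eq Nat.prime_two hpf.out).1 (Nat.prime_two.dvd_of_dvd_pow this)).symm

/-- The normalizer of a Sylow subgroup for the least prime other than `p` centralizes it. -/
theorem SemiFpf.normalizer_le_centralizer (h : SemiFpf p ρ) (hA : ∀ a : A, a ^ p = 1) {a₀ : A}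
    (ha₀ : a₀ ≠ 1) {q : ℕ} [hqf : Fact q.Prime] (hqp : q ≠ p) (hq2 : q ≠ 2)
    (hmin : ∀ r, r.Prime → r ∣ Nat.card Γ → r ≠ p → q ≤ r) (hdvd : q ∣ Nat.card Γ) (Q : Sylow q Γ) :
    Subgroup.normalizer ((Q : Subgroup Γ) : Set Γ) ≤ Subgroup.centralizer ((Q : Subgroup Γ) : Set Γ) := by
  classical
  have hfixq : ∀ g : Γ, g ≠ 1 → g ^ q = 1 → ∀ a, ρ g a = a → a = 1 := fun g hg hgq =>
    h.fpf g hg (by
      rw [orderOf_eq_prime hgq hg]
      exact fun hd => hqp ((Nat.prime_dvd_prime_iff_eq hpf.out hqf.out).1 hd).symm)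
  have hqA : ∀ a : A, a ^ q = 1 → a = 1 := fun a => pow_eq_one_iff_coprime hA hqf.out hqp
  haveI : Nontrivial (Q : Subgroup Γ) :=
    (Subgroup.nontrivial_iff_ne_bot _).2 (Q.ne_bot_of_dvd_card hdvd)
  obtain ⟨c, hc⟩ := exists_prime_orderOf_dvd_card' (G := Subgroup.center (Q : Subgroup Γ)) q
    (((Q.2.to_subgroup _).card_eq_or_dvd).resolve_left (by
      haveI := Q.2.center_nontrivial
      exact (Finite.one_lt_card).ne'))
  set d : Γ := ((c : (Q : Subgroup Γ)) : Γ) with hddef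
  have hod : orderOf d = q := by rw [hddef, Subgroup.orderOf_coe, Subgroup.orderOf_coe, hc]
  have hd1 : d ≠ 1 := fun e => by rw [e, orderOf_one] at hod; exact hqf.out.ne_one hod.symm
  have hdQ : d ∈ (Q : Subgroup Γ) := (c : (Q : Subgroup Γ)).2
  have huni : ∀ e ∈ (Q : Subgroup Γ), e ^ q = 1 → e ∈ Subgroup.zpowers d := fun e he heq =>
    mem_zpowers_of_fpf ρ hqf.out (by rw [← hod, pow_orderOf_eq_one]) hd1 heq
      (congrArg Subtype.val (Subgroup.mem_center_iff.1 c.2 ⟨e, he⟩)) hfixq hqA ha₀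
  haveI hcyc : IsCyclic (Q : Subgroup Γ) := by
    refine ZStar.cyclic_of_unique_subgroup hq2 Q.2 fun H K hH hK => ?_
    have key : ∀ L : Subgroup (Q : Subgroup Γ), Nat.card L = q →
        L.map (Q : Subgroup Γ).subtype = Subgroup.zpowers d := by
      intro L hL
      refine Subgroup.eq_of_le_of_card_ge ?_ ?_
      · rintro _ ⟨l, hl, rfl⟩
        refine huni _ l.2 ?_
        have := congrArg (fun v : L => ((v : (Q : Subgroup Γ)) : Γ))
          (pow_card_eq_one' (x := (⟨l, hl⟩ : L)))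
        simpa [hL] using this
      · rw [Nat.card_zpowers, hod, Subgroup.card_map_of_injective (Subgroup.subtype_injective _), hL]
    exact Subgroup.map_injective (Subgroup.subtype_injective _) ((key H hH).trans (key K hK).symm)
  have hab : ∀ a ∈ (Q : Subgroup Γ), ∀ b ∈ (Q : Subgroup Γ), Commute a b := fun a ha b hb => by
    obtain ⟨g, hg⟩ := IsCyclic.exists_generator (α := (Q : Subgroup Γ))
    obtain ⟨i, hi⟩ := Subgroup.mem_zpowers_iff.1 (hg ⟨a, ha⟩)
    obtain ⟨j, hj⟩ := Subgroup.mem_zpowers_iff.1 (hg ⟨b, hb⟩)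
    have : (⟨a, ha⟩ : (Q : Subgroup Γ)) * ⟨b, hb⟩ = ⟨b, hb⟩ * ⟨a, ha⟩ := by
      rw [← hi, ← hj, ← zpow_add, ← zpow_add, add_comm]
    exact congrArg Subtype.val this
  set N := Subgroup.normalizer ((Q : Subgroup Γ) : Set Γ) with hN
  set C := Subgroup.centralizer ((Q : Subgroup Γ) : Set Γ) with hC
  intro g hg
  by_contra hgC
  -- an element of prime power order outside the centralizer
  obtain ⟨r, hr, k, hk, hgk⟩ : ∃ r, r.Prime ∧ ∃ k ∈ N, k ∉ C ∧ ∃ m, orderOf k = r ^ m := by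
    by_contra! hno
    apply hgC
    clear hgC
    revert hg
    refine Nat.strong_induction_on (p := fun n => ∀ g : Γ, orderOf g = n → g ∈ N → g ∈ C) (orderOf g)
      ?_ g rfl
    intro n ih g hgn hgN
    by_cases hpp : IsPrimePow n
    · obtain ⟨r, m, hr, -, hm⟩ := (isPrimePow_nat_iff n).1 hpp
      by_contra hh
      exact (hno r hr g hgN hh m) (hgn.trans hm.symm)
    by_cases hn1 : n = 1
    · rw [hn1, orderOf_eq_one_iff] at hgn
      rw [hgn]; exact one_mem _
    have hn0 : n ≠ 0 := hgn ▸ (orderOf_pos g).ne'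
    obtain ⟨r, hr, hrn⟩ := Nat.exists_prime_and_dvd hn1
    obtain ⟨a, b, hb, hab'⟩ := Nat.exists_eq_pow_mul_and_not_dvd hn0 r hr.ne_one
    have hb1 : b ≠ 1 := fun e => hpp ((isPrimePow_nat_iff n).2 ⟨r, a, hr,
      Nat.pos_of_ne_zero (fun e' => hn1 (by rw [hab', e', e]; simp)), by rw [hab', e, mul_one]⟩)
    have ha0 : a ≠ 0 := fun e => hb (by rw [hab', e, pow_zero, one_mul] at hrn; exact hrn)
    have hcop : (r ^ a).Coprime b := ((hr.coprime_iff_not_dvd).2 hb).pow_left a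
    have h1 : orderOf (g ^ b) = r ^ a := by
      rw [orderOf_pow_of_dvd (fun e => hn0 (by rw [hab', e, mul_zero])) (hgn ▸ hab' ▸ dvd_mul_left b _),
        hgn, hab', Nat.mul_div_cancel _ (Nat.pos_of_ne_zero fun e => hn0 (by rw [hab', e, mul_zero]))]
    have h2 : orderOf (g ^ r ^ a) = b := by
      rw [orderOf_pow_of_dvd (pow_ne_zero _ hr.ne_zero) (hgn ▸ hab' ▸ dvd_mul_right _ b),
        hgn, hab', Nat.mul_div_cancel_left _ (pow_pos hr.pos _)]
    have hb0 : 0 < b := Nat.pos_of_ne_zero fun e => hn0 (by rw [hab', e, mul_zero])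
    have hlt1 : r ^ a < n := by rw [hab']; exact lt_mul_of_one_lt_right (pow_pos hr.pos a) (by omega)
    have hlt2 : b < n := by rw [hab']; exact lt_mul_of_one_lt_left hb0 (Nat.one_lt_pow ha0 hr.one_lt)
    have e1 := ih _ hlt1 _ h1 (pow_mem hgN b)
    have e2 := ih _ hlt2 _ h2 (pow_mem hgN _)
    have hz : (g ^ b) ^ (Nat.gcdB (r ^ a) b) * (g ^ r ^ a) ^ (Nat.gcdA (r ^ a) b) = g := by
      rw [← zpow_natCast g b, ← zpow_natCast g (r ^ a), ← zpow_mul, ← zpow_mul, ← zpow_add, add_comm,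
        ← Nat.gcd_eq_gcd_ab, hcop.gcd_eq_one, Nat.cast_one, zpow_one]
    rw [← hz]
    exact mul_mem (zpow_mem e1 _) (zpow_mem e2 _)
  obtain ⟨hkC, m, hm⟩ := hgk
  haveI := Fact.mk hr
  have hkp : IsPGroup r (Subgroup.zpowers k) :=
    IsPGroup.of_card (n := m) (by rw [Nat.card_zpowers, hm])
  have hrq : r ≠ q := by
    rintro rfl
    refine hkC ?_
    have hkQ : k ∈ (Q : Subgroup Γ) := by
      rw [← Q.3 (IsPGroup.to_sup_of_normal_right' hkp Q.2 (Subgroup.zpowers_le.2 hk)) le_sup_right]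
      exact Subgroup.mem_sup_left (Subgroup.mem_zpowers k)
    exact Subgroup.mem_centralizer_iff.2 fun y hy => hab y hy k hkQ
  have hm0 : m ≠ 0 := fun e => hkC (by
    rw [e, pow_zero, orderOf_eq_one_iff] at hm; rw [hm]; exact one_mem _)
  have hknd : k * d * k⁻¹ ∈ Subgroup.zpowers d :=
    huni _ ((Subgroup.mem_normalizer_iff.1 hk d).1 hdQ) (by rw [conj_pow, ← hod, pow_orderOf_eq_one]; group)
  by_cases hkd : Commute k d
  · -- an element centralizing the elements of order `q` centralizes the cyclic Sylow subgroup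
    refine hkC (Subgroup.mem_centralizer_iff.2 fun y hy => ?_)
    let f : (Q : Subgroup Γ) →* (Q : Subgroup Γ) :=
      { toFun := fun v => ⟨k * (v : Γ) * k⁻¹ * (v : Γ)⁻¹,
          mul_mem ((Subgroup.mem_normalizer_iff.1 hk _).1 v.2) (inv_mem v.2)⟩
        map_one' := Subtype.ext (by simp)
        map_mul' := fun v w => Subtype.ext (by
          have h1 := hab _ ((Subgroup.mem_normalizer_iff.1 hk _).1 w.2) _ (inv_mem v.2)
          simp only [Subgroup.coe_mul]
          calc k * ((v : Γ) * w) * k⁻¹ * ((v : Γ) * w)⁻¹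
              = k * v * k⁻¹ * (k * w * k⁻¹) * ((w : Γ)⁻¹ * (v : Γ)⁻¹) := by group
            _ = k * v * k⁻¹ * ((k * w * k⁻¹) * (v : Γ)⁻¹) * (w : Γ)⁻¹ := by
                rw [(hab _ (inv_mem w.2) _ (inv_mem v.2)).eq]; group
            _ = k * v * k⁻¹ * ((v : Γ)⁻¹ * (k * w * k⁻¹)) * (w : Γ)⁻¹ := by rw [h1.eq]
            _ = _ := by group) }
    by_contra hne
    have hne' : f.range ≠ ⊥ := fun e => hne (by
      have h0 : f ⟨y, hy⟩ ∈ f.range := ⟨_, rfl⟩
      rw [e, Subgroup.mem_bot] at h0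
      have h1 : k * y * k⁻¹ * y⁻¹ = 1 := congrArg Subtype.val h0
      rw [mul_inv_eq_one, mul_inv_eq_iff_eq_mul] at h1
      exact h1.symm)
    haveI : Nontrivial f.range := (Subgroup.nontrivial_iff_ne_bot _).2 hne'
    obtain ⟨⟨w, v, hv⟩, hw⟩ := exists_prime_orderOf_dvd_card' (G := f.range) q
      (((Q.2.to_subgroup _).card_eq_or_dvd).resolve_left (Finite.one_lt_card).ne')
    rw [← Subgroup.orderOf_coe, ← Subgroup.orderOf_coe] at hw
    change orderOf (w : Γ) = q at hw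
    have hwd : (w : Γ) ∈ Subgroup.zpowers d := huni _ w.2 (orderOf_dvd_iff_pow_eq_one.1 hw.dvd)
    obtain ⟨l, hl⟩ := Subgroup.mem_zpowers_iff.1 hwd
    have hkw : Commute k (w : Γ) := hl ▸ hkd.zpow_right l
    have e0 : k * (v : Γ) * k⁻¹ = (w : Γ) * v := by
      have : k * (v : Γ) * k⁻¹ * (v : Γ)⁻¹ = w := congrArg Subtype.val hv
      rw [← this]; group
    have hit : ∀ j : ℕ, k ^ j * (v : Γ) * (k ^ j)⁻¹ = (w : Γ) ^ j * v := by
      intro j
      induction j with
      | zero => simp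
      | succ j ih =>
        calc k ^ (j + 1) * (v : Γ) * (k ^ (j + 1))⁻¹ = k * (k ^ j * (v : Γ) * (k ^ j)⁻¹) * k⁻¹ := by
              rw [pow_succ']; group
          _ = k * ((w : Γ) ^ j * v) * k⁻¹ := by rw [ih]
          _ = (w : Γ) ^ j * (k * v * k⁻¹) := by
              rw [show k * ((w : Γ) ^ j * v) * k⁻¹ = (k * (w : Γ) ^ j) * v * k⁻¹ by group, (hkw.pow_right j).eq]
              group
          _ = (w : Γ) ^ (j + 1) * v := by rw [e0, pow_succ]; group
    have := hit (r ^ m)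
    rw [← hm, pow_orderOf_eq_one, one_mul, inv_one, mul_one, hm, right_eq_mul] at this
    have hdv := orderOf_dvd_of_pow_eq_one this
    rw [hw] at hdv
    exact hrq ((Nat.prime_dvd_prime_iff_eq hqf.out hr).1 (hqf.out.dvd_of_dvd_pow hdv)).symm
  -- a non-central element normalizing the subgroup of order `q`
  obtain ⟨i, hi⟩ := Subgroup.mem_zpowers_iff.1 hknd
  by_cases hrp : r = p
  · subst hrp
    obtain ⟨m', rfl⟩ : ∃ m', m = m' + 1 := ⟨m - 1, by omega⟩
    have hx : orderOf (k ^ r ^ m') = r := by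
      rw [orderOf_pow_of_dvd (pow_ne_zero _ hr.ne_zero) (hm ▸ pow_dvd_pow r (Nat.le_succ _)), hm,
        pow_succ, Nat.mul_div_cancel_left _ (pow_pos hr.pos _)]
    have hxn : k ^ r ^ m' * d * (k ^ r ^ m')⁻¹ ∈ Subgroup.zpowers d :=
      huni _ ((Subgroup.mem_normalizer_iff.1 (pow_mem hk _) d).1 hdQ)
        (by rw [conj_pow, ← hod, pow_orderOf_eq_one]; group)
    refine h.nonorm _ d hx (hod ▸ hqf.out) (hod ▸ hqp) hxn fun hcx => ?_
    have ho : orderOf (k ^ r ^ m' * d) = r * q := by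
      rw [hcx.orderOf_mul_eq_mul_orderOf_of_coprime (by
        rw [hx, hod]; exact (Nat.coprime_primes hr hqf.out).2 (Ne.symm hqp)), hx, hod]
    obtain ⟨l, hl⟩ := h.mix _ (ho ▸ dvd_mul_right r q)
    rw [ho] at hl
    exact hqp ((Nat.prime_dvd_prime_iff_eq hqf.out hr).1 (hqf.out.dvd_of_dvd_pow (hl ▸ dvd_mul_left q r)))
  · -- the prime is at least `q`, too large to act
    have hrle : q ≤ r := hmin r hr ((dvd_pow_self r hm0).trans (hm ▸ orderOf_dvd_natCard k)) hrp
    apply hkd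
    have hit : ∀ j : ℕ, k ^ j * d * (k ^ j)⁻¹ = d ^ (i ^ j) := by
      intro j
      induction j with
      | zero => simp
      | succ j ih =>
        calc k ^ (j + 1) * d * (k ^ (j + 1))⁻¹ = k * (k ^ j * d * (k ^ j)⁻¹) * k⁻¹ := by
              rw [pow_succ']; group
          _ = k * d ^ (i ^ j) * k⁻¹ := by rw [ih]
          _ = (k * d * k⁻¹) ^ (i ^ j) := conj_zpow.symm
          _ = d ^ (i ^ (j + 1)) := by rw [← hi, ← zpow_mul, pow_succ']
    have h1 := hit (r ^ m)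
    rw [← hm, pow_orderOf_eq_one, one_mul, inv_one, mul_one, hm] at h1
    have h2 : (i : ZMod q) ^ r ^ m = 1 := by
      have h3 : (d : Γ) ^ (i ^ r ^ m - 1) = 1 := by rw [zpow_sub, ← h1, zpow_one, mul_inv_cancel]
      have h4 := orderOf_dvd_iff_zpow_eq_one.2 h3
      rw [hod] at h4
      have h5 := (ZMod.intCast_zmod_eq_zero_iff_dvd _ q).2 h4
      rw [Int.cast_sub, Int.cast_pow, Int.cast_one, sub_eq_zero] at h5
      exact h5
    have hi0 : (i : ZMod q) ≠ 0 := fun e => by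
      rw [e, zero_pow (pow_ne_zero _ hr.ne_zero)] at h2
      exact zero_ne_one h2
    have h6 := pow_gcd_eq_one.mpr ⟨h2, ZMod.pow_card_sub_one_eq_one hi0⟩
    rw [Nat.Coprime.gcd_eq_one (Nat.Coprime.pow_left m ((hr.coprime_iff_not_dvd).2 fun hd => by
      have := Nat.le_of_dvd (by have := hqf.out.two_le; omega) hd; omega)), pow_one] at h6
    have h7 : ((i - 1 : ℤ) : ZMod q) = 0 := by rw [Int.cast_sub, h6, Int.cast_one, sub_self]
    have h8 := orderOf_dvd_iff_zpow_eq_one.1 ((hod ▸ (ZMod.intCast_zmod_eq_zero_iff_dvd _ q).1 h7 :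
      (orderOf d : ℤ) ∣ i - 1))
    have h9 : k * d * k⁻¹ = d := by
      rw [← hi]
      calc d ^ i = d ^ (i - 1) * d := by rw [← zpow_add_one]; simp
        _ = d := by rw [h8, one_mul]
    exact mul_inv_eq_iff_eq_mul.1 h9

end

/-- The Sylow `p`-subgroup is normal. -/
theorem SemiFpf.exists_normal {p : ℕ} [hpf : Fact p.Prime] (hA : ∀ a : A, a ^ p = 1) {a₀ : A}
    (ha₀ : a₀ ≠ 1) : ∀ {Γ : Type u} [Group Γ] [Finite Γ] {ρ : Γ →* MulAut A}, SemiFpf p ρ →
      ∃ R : Subgroup Γ, R.Normal ∧ IsPGroup p R ∧ ¬ p ∣ R.index := by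
  intro Γ _ _ ρ h
  induction hn : Nat.card Γ using Nat.strong_induction_on generalizing Γ with
  | _ n ih =>
  subst hn
  classical
  by_cases h2 : p ≠ 2 ∧ 2 ∣ Nat.card Γ
  · haveI : Fact (Nat.Prime 2) := ⟨Nat.prime_two⟩
    obtain ⟨z, hz⟩ := exists_prime_orderOf_dvd_card' 2 h2.2
    exact h.of_involution hA ha₀ h2.1 hz
  by_cases hpg : ∀ r, r.Prime → r ∣ Nat.card Γ → r = p
  · refine ⟨⊤, inferInstance, ?_, by rw [Subgroup.index_top, Nat.dvd_one]; exact hpf.out.ne_one⟩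
    refine IsPGroup.of_card (n := (Nat.card Γ).primeFactorsList.length) ?_
    rw [Subgroup.card_top]
    exact Nat.eq_prime_pow_of_unique_prime_dvd Nat.card_pos.ne' (fun {d} hd hdd => hpg d hd hdd)
  push Not at hpg
  have hex : ∃ r, r.Prime ∧ r ∣ Nat.card Γ ∧ r ≠ p := hpg
  set q := Nat.find hex with hqdef
  obtain ⟨hq, hqd, hqp⟩ := Nat.find_spec hex
  have hq2 : q ≠ 2 := by
    intro e
    refine h2 ⟨fun hp => hqp (e.trans hp.symm), e ▸ hqd⟩
  haveI := Fact.mk hq
  obtain ⟨Q⟩ : Nonempty (Sylow q Γ) := inferInstance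
  have hnc := h.normalizer_le_centralizer hA ha₀ hqp hq2
    (fun r hr hrd hrp => Nat.find_min' hex ⟨hr, hrd, hrp⟩) hqd Q
  have hcompl := MonoidHom.ker_transferSylow_isComplement' Q hnc
  set M := (MonoidHom.transferSylow Q hnc).ker with hM
  have hMidx : M.index = Nat.card (Q : Subgroup Γ) := hcompl.symm.index_eq_card
  have hQ1 : 1 < Nat.card (Q : Subgroup Γ) :=
    (Subgroup.one_lt_card_iff_ne_bot _).2 (Q.ne_bot_of_dvd_card hqd)
  have hlt : Nat.card M < Nat.card Γ := by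
    rw [← M.card_mul_index, hMidx]
    exact lt_mul_of_one_lt_right Nat.card_pos hQ1
  obtain ⟨R, hRn, hRp, hRi⟩ := ih _ hlt (h.comp M.subtype M.subtype_injective) rfl
  haveI := hRn
  have hpM : ¬ p ∣ M.index := by
    rw [hMidx]
    obtain ⟨k, hk⟩ := Q.2.exists_card_eq
    rw [hk]
    exact fun hd => hqp ((Nat.prime_dvd_prime_iff_eq hpf.out hq).1 (hpf.out.dvd_of_dvd_pow hd)).symm
  haveI : R.Characteristic := by
    have := (hRp.toSylow hRi).characteristic_of_normal hRn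
    rwa [IsPGroup.toSylow_coe] at this
  refine ⟨R.map M.subtype, ConjAct.normal_of_characteristic_of_normal, hRp.map _, ?_⟩
  rw [Subgroup.index_map_subtype]
  exact hpf.out.not_dvd_mul hRi hpM

end CfsgLib.Partition
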