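import Mathlib
import Cfsg.Prelude.Def_Solvable
import Cfsg.Agent.Lib.Partition.Basic
import Cfsg.Agent.Lib.Partition.Fpf
import Cfsg.Agent.Lib.Splitting.Nilpotent
import Cfsg.Agent.Lib.OddLocal.PartnerBasics
import Cfsg.Agent.Lib.FrobCompl.Fpf
import Cfsg.Agent.Lib.Critical.Basic

/-!
# A normal component

A normal component is nilpotent, and either all elements outside it have one prime order or the
group is a Frobenius group.
-/

set_option autoImplicit false
set_option linter.unusedSectionVars false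
set_option linter.style.haveILetI false

open scoped BigOperators IsMulCommutative

namespace CfsgLib.Partition

universe u

variable {G : Type u} [Group G]

/-- The conclusion for groups with a normal component. -/
def HughesOrFrob (G : Type u) [Group G] : Prop :=
  (∃ p : ℕ, p.Prime ∧ Subgroup.closure {g : G | g ^ p ≠ 1} ≠ ⊤) ∨
    ∃ H : Subgroup G, Cfsg.IsFrobeniusComplement H

/-- The elements of order dividing `r` in the centre of `H`. -/
def centTor (H : Subgroup G) (r : ℕ) : Subgroup G where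
  carrier := {x | x ∈ H ∧ x ^ r = 1 ∧ ∀ h ∈ H, Commute h x}
  mul_mem' := by
    rintro x y ⟨hx, hxr, hxc⟩ ⟨hy, hyr, hyc⟩
    exact ⟨mul_mem hx hy, by rw [(hyc x hx).mul_pow, hxr, hyr, one_mul],
      fun h hh => (hxc h hh).mul_right (hyc h hh)⟩
  one_mem' := ⟨one_mem _, one_pow _, fun h _ => Commute.one_right h⟩
  inv_mem' := by
    rintro x ⟨hx, hxr, hxc⟩
    exact ⟨inv_mem hx, by rw [inv_pow, hxr, inv_one], fun h hh => (hxc h hh).inv_right⟩

theorem mem_centTor {H : Subgroup G} {r : ℕ} {x : G} :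
    x ∈ centTor H r ↔ x ∈ H ∧ x ^ r = 1 ∧ ∀ h ∈ H, Commute h x := Iff.rfl

instance centTor_normal (H : Subgroup G) [hH : H.Normal] (r : ℕ) : (centTor H r).Normal := by
  refine ⟨fun x hx g => ?_⟩
  obtain ⟨hx, hxr, hxc⟩ := mem_centTor.1 hx
  refine mem_centTor.2 ⟨hH.conj_mem x hx g, by rw [conj_pow, hxr]; group, fun h hh => ?_⟩
  have h1 := (hxc (g⁻¹ * h * g) (by simpa using hH.conj_mem h hh g⁻¹)).map (MulAut.conj g)
  simpa [mul_assoc] using h1

theorem exists_centTor_ne_one [Finite G] {H : Subgroup G} (hn : Group.IsNilpotent H) {r : ℕ}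
    [hr : Fact r.Prime] (hd : r ∣ Nat.card H) : ∃ x ∈ centTor H r, x ≠ 1 := by
  haveI := hn
  obtain ⟨S⟩ : Nonempty (Sylow r H) := inferInstance
  haveI : (S : Subgroup H).Normal := CfsgLib.Splitting.sylow_normal_of_isNilpotent hn S
  obtain ⟨⟨z, hz⟩, hz1⟩ := Subgroup.ne_bot_iff_exists_ne_one.1
    (CfsgLib.Critical.inf_center_ne_bot (S : Subgroup H) (S.ne_bot_of_dvd_card hd))
  obtain ⟨hzS, hzC⟩ := Subgroup.mem_inf.1 hz
  obtain ⟨k, hk⟩ := IsPGroup.iff_orderOf.1 S.2 ⟨z, hzS⟩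
  rw [← Subgroup.orderOf_coe] at hk
  have hk0 : k ≠ 0 := fun e => hz1 (Subtype.ext (by
    rw [e, pow_zero, orderOf_eq_one_iff] at hk
    exact hk))
  obtain ⟨j, rfl⟩ := Nat.exists_eq_succ_of_ne_zero hk0
  refine ⟨((z ^ r ^ j : H) : G), mem_centTor.2 ⟨(z ^ r ^ j).2, ?_, fun h hh => ?_⟩, fun e => ?_⟩
  · rw [← Subgroup.coe_pow, ← pow_mul, ← pow_succ, ← hk, pow_orderOf_eq_one, Subgroup.coe_one]
  · exact congrArg Subtype.val (Subgroup.mem_center_iff.1 (pow_mem hzC (r ^ j)) ⟨h, hh⟩)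
  · have h1 := orderOf_dvd_of_pow_eq_one (Subtype.ext e : (z : H) ^ r ^ j = 1)
    rw [hk] at h1
    have := Nat.le_of_dvd (pow_pos hr.out.pos _) h1
    exact absurd this (not_le.2 (Nat.pow_lt_pow_right hr.out.one_lt (Nat.lt_succ_self j)))

/-- The action of `G ⧸ H` on a normal subgroup centralized by `H`. -/
noncomputable def quotAct (H N : Subgroup G) [H.Normal] [N.Normal]
    (hHN : ∀ h ∈ H, ∀ x ∈ N, Commute h x) : G ⧸ H →* MulAut N :=
  QuotientGroup.lift H MulAut.conjNormal fun h hh => MonoidHom.mem_ker.2 <| MulEquiv.ext fun x =>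
    Subtype.ext <| by
      rw [MulAut.conjNormal_apply, (hHN h hh x x.2).eq, mul_inv_cancel_right]
      rfl

theorem quotAct_mk (H N : Subgroup G) [H.Normal] [N.Normal]
    (hHN : ∀ h ∈ H, ∀ x ∈ N, Commute h x) (g : G) (x : N) :
    ((quotAct H N hHN (g : G ⧸ H) x : N) : G) = g * x * g⁻¹ := by
  rw [quotAct, QuotientGroup.lift_mk, MulAut.conjNormal_apply]

/-- Trace of the conjugation on an abelian normal subgroup. -/
theorem mul_pow_eq_prod {N : Subgroup G} [N.Normal] [IsMulCommutative N] (g : G) (a : N) (n : ℕ) :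
    ((a : G) * g) ^ n =
      ((∏ i ∈ Finset.range n, MulAut.conjNormal (g ^ i) a : N) : G) * g ^ n := by
  induction n with
  | zero => simp
  | succ n ih =>
    rw [pow_succ, ih, Finset.prod_range_succ, Subgroup.coe_mul, MulAut.conjNormal_apply, pow_succ g n]
    group

theorem quotAct_pow {H N : Subgroup G} [H.Normal] [N.Normal]
    {hHN : ∀ h ∈ H, ∀ x ∈ N, Commute h x} [IsMulCommutative N] {g : G} {a : N} {n : ℕ}
    (h1 : ((a : G) * g) ^ n = 1) (h2 : g ^ n = 1) :
    ∏ i ∈ Finset.range n, quotAct H N hHN ((g : G ⧸ H) ^ i) a = 1 := by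
  have h3 := mul_pow_eq_prod g a n
  rw [h1, h2, mul_one] at h3
  refine Eq.trans ?_ (Subtype.ext h3.symm)
  refine Finset.prod_congr rfl fun i _ => ?_
  rw [← QuotientGroup.mk_pow, quotAct, QuotientGroup.lift_mk]

/-- **A normal component.** -/
theorem normal_comp [Finite G] (P : Part G) {h₀ : G} (h₀1 : h₀ ≠ 1) (hN : (P.comp h₀).Normal) :
    Group.IsNilpotent (P.comp h₀) ∧ HughesOrFrob G := by
  classical
  set H := P.comp h₀ with hHdef
  haveI := hN
  have hHne : H ≠ ⊤ := P.proper h₀ h₀1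
  have hHbot : H ≠ ⊥ := fun e => h₀1 (by
    have h := P.mem h₀
    rw [← hHdef, e, Subgroup.mem_bot] at h
    exact h)
  have hcomp : ∀ {h : G}, h ∈ H → h ≠ 1 → P.comp h = H := fun hh h1 => P.eq _ _ h₀1 h1 hh
  have hout : ∀ {g h : G}, g ∉ H → h ∈ H → h ≠ 1 → Commute g h →
      (orderOf h).Prime ∧ orderOf g = orderOf h := fun hg hh h1 hc =>
    P.orderOf_of_commute h1 (fun e => hg (e ▸ one_mem _)) hc.symm (by rwa [hcomp hh h1])
  by_cases hfpf : ∀ g h : G, g ∉ H → h ∈ H → h ≠ 1 → ¬ Commute g h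
  · -- a Frobenius group with kernel `H`
    have hcop : (Nat.card H).Coprime H.index := by
      refine Nat.coprime_of_dvd fun p hp hpH hpI => ?_
      haveI := Fact.mk hp
      obtain ⟨h, hh⟩ := exists_prime_orderOf_dvd_card' (G := H) p hpH
      obtain ⟨T', hT'⟩ := (IsPGroup.of_card (p := p) (n := 1)
        (by rw [Nat.card_zpowers, ← hh, pow_one, Subgroup.orderOf_coe] :
          Nat.card (Subgroup.zpowers (h : G)) = p ^ 1)).exists_le_sylow
      have hhT : (h : G) ∈ (T' : Subgroup G) := hT' (Subgroup.mem_zpowers _)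
      have hh1 : (h : G) ≠ 1 := fun e => by
        rw [← Subgroup.orderOf_coe, e, orderOf_one] at hh
        exact hp.ne_one hh.symm
      haveI : Nontrivial (T' : Subgroup G) :=
        (Subgroup.nontrivial_iff_ne_bot _).2 fun e => hh1 (by rw [e] at hhT; exact Subgroup.mem_bot.1 hhT)
      haveI := T'.2.center_nontrivial
      obtain ⟨z, hz⟩ := exists_ne (1 : Subgroup.center (T' : Subgroup G))
      have hz1 : ((z : (T' : Subgroup G)) : G) ≠ 1 := fun e => hz (Subtype.ext (Subtype.ext e))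
      have hzc : ∀ g ∈ (T' : Subgroup G), Commute g ((z : (T' : Subgroup G)) : G) := fun g hg =>
        congrArg Subtype.val (Subgroup.mem_center_iff.1 z.2 ⟨g, hg⟩)
      have hzH : ((z : (T' : Subgroup G)) : G) ∈ H :=
        by_contra fun hn => hfpf _ _ hn h.2 hh1 (hzc _ hhT).symm
      have hle : (T' : Subgroup G) ≤ H := fun g hg =>
        by_contra fun hn => hfpf g _ hn hzH hz1 (hzc g hg)
      exact T'.not_dvd_index (hpI.trans (Subgroup.index_dvd_of_le hle))
    obtain ⟨K, hK⟩ := Subgroup.exists_right_complement'_of_coprime hcop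
    have hKbot : K ≠ ⊥ := fun e => hHne (by
      rw [e] at hK; exact Subgroup.isComplement'_bot_right.mp hK)
    obtain ⟨⟨b, hb⟩, hb1⟩ := Subgroup.ne_bot_iff_exists_ne_one.1 hKbot
    have hbH : ∀ {c : G}, c ∈ K → c ≠ 1 → c ∉ H := fun hc hc1 hcH => hc1 (by
      have h : _ ∈ H ⊓ K := ⟨hcH, hc⟩
      rwa [hK.disjoint.eq_bot, Subgroup.mem_bot] at h)
    refine ⟨?_, Or.inr ⟨K, CfsgLib.FrobCompl.isFrobeniusComplement_of_fpf hK hHbot hKbot
      fun k hk hk1 h hh hc => by_contra fun h1 => hfpf k h (hbH hk hk1) hh h1 hc.symm⟩⟩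
    obtain ⟨r, hr, hrd⟩ := Nat.exists_prime_and_dvd
      (n := orderOf b) fun e => hb1 (Subtype.ext (orderOf_eq_one_iff.1 e))
    obtain ⟨m, hm⟩ := hrd
    have hb' : b ^ m ≠ 1 := fun e => by
      have h := Nat.le_of_dvd (Nat.pos_of_ne_zero fun e' => by
        rw [e', mul_zero] at hm; exact (orderOf_pos b).ne' hm) (orderOf_dvd_of_pow_eq_one e)
      rw [hm] at h
      have := hr.two_le
      nlinarith [orderOf_pos b]
    refine CfsgLib.OddLocal.isNilpotent_of_fpf_elem hr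
      (b := b ^ m) (by rw [← pow_mul, mul_comm, ← hm, pow_orderOf_eq_one])
      (by rw [Subgroup.normalizer_eq_top]; trivial) ?_
    rw [eq_bot_iff]
    intro h hh
    obtain ⟨hhH, hhc⟩ := Subgroup.mem_inf.1 hh
    exact Subgroup.mem_bot.2 (by_contra fun h1 =>
      hfpf _ h (hbH (pow_mem hb m) hb') hhH h1 (Subgroup.mem_centralizer_iff.1 hhc _ rfl))
  -- an element outside centralizes an element of `H`
  push Not at hfpf
  obtain ⟨g₀, h₁, hg₀, hh₁, h₁1, hc₁⟩ := hfpf
  obtain ⟨hp, hgo⟩ := hout hg₀ hh₁ h₁1 hc₁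
  set p := orderOf h₁ with hpdef
  haveI := Fact.mk hp
  have hord : ∀ g : G, g ∉ H → orderOf (g : G ⧸ H) = orderOf g := by
    intro g hg
    refine Nat.dvd_antisymm (orderOf_map_dvd (QuotientGroup.mk' H) g) (orderOf_dvd_of_pow_eq_one ?_)
    have hmem : g ^ orderOf (g : G ⧸ H) ∈ H := by
      rw [← QuotientGroup.eq_one_iff, QuotientGroup.mk_pow, pow_orderOf_eq_one]
    by_contra hne
    have : P.comp g = H := (P.comp_pow hne).symm.trans (hcomp hmem hne)
    exact hg (this ▸ P.mem g)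
  have hmulH : ∀ {g h : G}, g ∉ H → h ∈ H → h * g ∉ H ∧ ((h * g : G) : G ⧸ H) = (g : G ⧸ H) := by
    intro g h hg hh
    refine ⟨fun hc => hg ((Subgroup.mul_mem_cancel_left H hh).1 hc), ?_⟩
    rw [QuotientGroup.mk_mul, (QuotientGroup.eq_one_iff h).2 hh, one_mul]
  have hpow : ∀ {g h : G}, g ∉ H → h ∈ H → (h * g) ^ orderOf g = 1 := fun hg hh => by
    rw [← hord _ hg, ← (hmulH hg hh).2, hord _ (hmulH hg hh).1, pow_orderOf_eq_one]
  have hnil : Group.IsNilpotent H :=
    CfsgLib.Splitting.isNilpotent_of_splitting (p := p) H g₀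
      (by rw [Subgroup.normalizer_eq_top]; trivial) fun h hh => hgo ▸ hpow hg₀ hh
  refine ⟨hnil, ?_⟩
  have hall : ∀ r, r.Prime → r ∣ Nat.card H → ∀ γ : G ⧸ H, γ ≠ 1 → ¬ r ∣ orderOf γ →
      ∀ a : centTor H r, quotAct H (centTor H r) (fun h hh x hx => (mem_centTor.1 hx).2.2 h hh) γ a
        = a → a = 1 := by
    intro r hr _ γ hγ hnd a ha
    obtain ⟨g, rfl⟩ := QuotientGroup.mk_surjective γ
    by_contra ha1
    have hg : g ∉ H := fun h => hγ ((QuotientGroup.eq_one_iff g).2 h)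
    obtain ⟨haH, har, -⟩ := mem_centTor.1 a.2
    have hc : Commute g (a : G) := by
      have h := congrArg Subtype.val ha
      rw [quotAct_mk] at h
      exact mul_inv_eq_iff_eq_mul.1 h
    have ha1' : (a : G) ≠ 1 := fun e => ha1 (Subtype.ext e)
    haveI := Fact.mk hr
    exact hnd ⟨1, by rw [hord g hg, (hout hg haH ha1' hc).2, orderOf_eq_prime har ha1', mul_one]⟩
  set N := centTor H p with hNdef
  have hHN : ∀ h ∈ H, ∀ x ∈ N, Commute h x := fun h hh x hx => (mem_centTor.1 hx).2.2 h hh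
  obtain ⟨n₀, hn₀, hn₀1⟩ := exists_centTor_ne_one hnil (r := p)
    (by rw [hpdef, ← Subgroup.orderOf_mk h₁ hh₁]; exact orderOf_dvd_natCard _)
  haveI : IsMulCommutative N := ⟨⟨fun x y => Subtype.ext
    ((mem_centTor.1 y.2).2.2 x (mem_centTor.1 x.2).1).eq⟩⟩
  have hNp : ∀ a : N, a ^ p = 1 := fun a => Subtype.ext (by
    rw [Subgroup.coe_pow, (mem_centTor.1 a.2).2.1, Subgroup.coe_one])
  set ρ := quotAct H N hHN with hρ
  -- a `p`-element has a fixed point
  have hfix : ∀ γ : G ⧸ H, ∀ k, orderOf γ = p ^ k → ∃ a : N, a ≠ 1 ∧ ρ γ a = a := by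
    intro γ k hk
    letI : MulAction (Subgroup.zpowers γ) N :=
      MulAction.compHom N (ρ.comp (Subgroup.zpowers γ).subtype)
    have hpg : IsPGroup p (Subgroup.zpowers γ) :=
      IsPGroup.of_card (n := k) (by rw [Nat.card_zpowers, hk])
    have hdvd : p ∣ Nat.card N := by
      rw [← orderOf_eq_prime (hNp ⟨n₀, hn₀⟩) fun e => hn₀1 (congrArg Subtype.val e)]
      exact orderOf_dvd_natCard _
    obtain ⟨b, hb, hb1⟩ := hpg.exists_fixed_point_of_prime_dvd_card_of_fixed_point N hdvd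
      (a := (1 : N)) fun e => map_one (ρ (e : G ⧸ H))
    exact ⟨b, fun e => hb1 e.symm, hb ⟨γ, Subgroup.mem_zpowers γ⟩⟩
  have hsf : SemiFpf p ρ := by
    refine ⟨fun γ hγ hnd a ha => hall p hp ?_ γ hγ hnd a ha, fun γ hd => ?_, ?_⟩
    · rw [hpdef, ← Subgroup.orderOf_mk h₁ hh₁]; exact orderOf_dvd_natCard _
    · by_contra! hno
      have hex : ∃ q, q.Prime ∧ q ≠ p ∧ q ∣ orderOf γ := by
        by_contra! hall'
        exact hno _ (Nat.eq_prime_pow_of_unique_prime_dvd (orderOf_pos γ).ne'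
          fun {d} hd1 hd2 => by_contra fun hne => hall' d hd1 hne hd2)
      obtain ⟨q, hq, hqp, hqd⟩ := hex
      obtain ⟨m, hm⟩ : p * q ∣ orderOf γ :=
        ((Nat.coprime_primes hp hq).2 (Ne.symm hqp)).mul_dvd_of_dvd_of_dvd hd hqd
      have hm0 : m ≠ 0 := fun e => by rw [e, mul_zero] at hm; exact (orderOf_pos γ).ne' hm
      obtain ⟨g, hg⟩ := QuotientGroup.mk_surjective (γ ^ m)
      have hgo' : orderOf (γ ^ m) = p * q := by
        rw [orderOf_pow_of_dvd hm0 (hm ▸ dvd_mul_left m _), hm,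
          Nat.mul_div_cancel _ (Nat.pos_of_ne_zero hm0)]
      have hgH : g ∉ H := fun h => by
        rw [← hg, (QuotientGroup.eq_one_iff g).2 h, orderOf_one] at hgo'
        exact hp.ne_one (Nat.eq_one_of_mul_eq_one_right hgo'.symm)
      have hgord : orderOf g = p * q := by rw [← hord g hgH, hg, hgo']
      have hx : orderOf (g ^ q) = p := by
        rw [orderOf_pow_of_dvd hq.ne_zero (hgord ▸ dvd_mul_left q p), hgord,
          Nat.mul_div_cancel _ hq.pos]
      have hd' : orderOf (g ^ p) = q := by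
        rw [orderOf_pow_of_dvd hp.ne_zero (hgord ▸ dvd_mul_right p q), hgord,
          Nat.mul_div_cancel_left _ hp.pos]
      have hx1 : g ^ q ≠ 1 := fun e => by rw [e, orderOf_one] at hx; exact hp.ne_one hx.symm
      have hd1 : g ^ p ≠ 1 := fun e => by rw [e, orderOf_one] at hd'; exact hq.ne_one hd'.symm
      have hg1 : g ≠ 1 := fun e => hgH (e ▸ one_mem _)
      have hKH : ∀ y ∈ P.comp g, y ∈ H → y = 1 := fun y hy hyH => by_contra fun h1 =>
        hgH ((hcomp hyH h1) ▸ (P.eq g y hg1 h1 hy).symm ▸ P.mem g)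
      have hxH : g ^ q ∉ H := fun h => hx1 (hKH _ (P.pow_mem_comp g q) h)
      obtain ⟨n, hn1, hn⟩ := hfix ((g ^ q : G) : G ⧸ H) 1 (by rw [hord _ hxH, hx, pow_one])
      have hnc : Commute (g ^ q) (n : G) := by
        have h := congrArg Subtype.val hn
        rw [hρ, quotAct_mk] at h
        exact mul_inv_eq_iff_eq_mul.1 h
      have hnN : (n : G) ∈ Subgroup.normalizer (P.comp g : Set G) :=
        P.mem_normalizer_of_commute hg1 (P.pow_mem_comp g q) hx1 hnc.symm
      have h2 : (n : G) * g ^ p * (n : G)⁻¹ * (g ^ p)⁻¹ = 1 := by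
        refine hKH _ (mul_mem ((Subgroup.mem_normalizer_iff.1 hnN _).1 (P.pow_mem_comp g p))
          (inv_mem (P.pow_mem_comp g p))) ?_
        rw [show (n : G) * g ^ p * (n : G)⁻¹ * (g ^ p)⁻¹ = (n : G) * (g ^ p * (n : G)⁻¹ * (g ^ p)⁻¹)
          by group]
        exact mul_mem (mem_centTor.1 n.2).1 (hN.conj_mem _ (inv_mem (mem_centTor.1 n.2).1) _)
      have hdc : Commute (g ^ p) (n : G) := by
        rw [mul_inv_eq_one, mul_inv_eq_iff_eq_mul] at h2
        exact h2.symm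
      have hdH : g ^ p ∉ H := fun h => hd1 (hKH _ (P.pow_mem_comp g p) h)
      have hn1' : (n : G) ≠ 1 := fun e => hn1 (Subtype.ext e)
      have h3 := (hout hdH (mem_centTor.1 n.2).1 hn1' hdc).2
      rw [hd', orderOf_eq_prime (mem_centTor.1 n.2).2.1 hn1'] at h3
      exact hqp h3
    · intro x d hx hd hdp hn hc
      obtain ⟨a, ha⟩ := exists_trace_ne ρ (hx ▸ hp) hd hn hc
        (fun a h => hall p hp (by rw [hpdef, ← Subgroup.orderOf_mk h₁ hh₁]; exact orderOf_dvd_natCard _)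
          d (fun e => by rw [e, orderOf_one] at hd; exact Nat.not_prime_one hd)
          (fun h' => hdp ((Nat.prime_dvd_prime_iff_eq hp hd).1 h').symm) a h)
        (fun a => pow_eq_one_iff_coprime hNp hd hdp) (a₀ := ⟨n₀, hn₀⟩)
        fun e => hn₀1 (congrArg Subtype.val e)
      obtain ⟨g, rfl⟩ := QuotientGroup.mk_surjective x
      have hgH : g ∉ H := fun h => by
        rw [(QuotientGroup.eq_one_iff g).2 h, orderOf_one] at hx
        exact hp.ne_one hx.symm
      rw [hord g hgH] at hx ha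
      exact ha (quotAct_pow (hpow hgH (mem_centTor.1 a.2).1) (pow_orderOf_eq_one g))
  obtain ⟨R, hRn, hRp, hRi⟩ := SemiFpf.exists_normal hNp (a₀ := ⟨n₀, hn₀⟩)
    (fun e => hn₀1 (congrArg Subtype.val e)) hsf
  haveI := hRn
  -- the image of the element we started with
  have hpmem : ∀ γ : G ⧸ H, ∀ k, orderOf γ = p ^ k → γ ∈ R := fun γ k hk => by
    have hpg : IsPGroup p (Subgroup.zpowers γ) :=
      IsPGroup.of_card (n := k) (by rw [Nat.card_zpowers, hk])
    haveI := hRn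
    obtain ⟨T, hT⟩ := hpg.exists_le_sylow
    have hS : (hRp.toSylow hRi : Subgroup (G ⧸ H)) = R := IsPGroup.toSylow_coe hRp hRi
    haveI : Unique (Sylow p (G ⧸ H)) :=
      Sylow.unique_of_normal (hRp.toSylow hRi) (by rw [hS]; exact hRn)
    rw [Subsingleton.elim T (hRp.toSylow hRi), hS] at hT
    exact hT (Subgroup.mem_zpowers γ)
  have hexp : ∀ γ ∈ R, γ ^ p = 1 := by
    intro γ hγ
    obtain ⟨k, hk⟩ := IsPGroup.iff_orderOf.1 hRp ⟨γ, hγ⟩
    rw [Subgroup.orderOf_mk] at hk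
    by_cases h1 : γ = 1
    · rw [h1, one_pow]
    obtain ⟨a, ha1, ha⟩ := hfix γ k hk
    obtain ⟨g, rfl⟩ := QuotientGroup.mk_surjective γ
    have hgH : g ∉ H := fun h => h1 ((QuotientGroup.eq_one_iff g).2 h)
    have hc : Commute g (a : G) := by
      have h := congrArg Subtype.val ha
      rw [hρ, quotAct_mk] at h
      exact mul_inv_eq_iff_eq_mul.1 h
    have ha1' : (a : G) ≠ 1 := fun e => ha1 (Subtype.ext e)
    have h3 := (hout hgH (mem_centTor.1 a.2).1 ha1' hc).2
    rw [orderOf_eq_prime (mem_centTor.1 a.2).2.1 ha1', ← hord g hgH] at h3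
    rw [← h3, pow_orderOf_eq_one]
  by_cases hRtop : R = ⊤
  · refine Or.inl ⟨p, hp, fun e => hHne (top_le_iff.1 (e ▸ (Subgroup.closure_le _).2 fun g hg => ?_))⟩
    by_contra hgH
    apply hg
    have h := hexp (g : G ⧸ H) (hRtop ▸ Subgroup.mem_top _)
    have h' := orderOf_dvd_of_pow_eq_one h
    rw [hord g hgH] at h'
    exact orderOf_dvd_iff_pow_eq_one.1 h'
  -- there is an element of order prime to `p` in the quotient
  have hHp : IsPGroup p H := by
    by_contra hnp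
    obtain ⟨r, hr, hrd, hrp⟩ : ∃ r, r.Prime ∧ r ∣ Nat.card H ∧ r ≠ p := by
      by_contra! hall'
      exact hnp (IsPGroup.of_card (Nat.eq_prime_pow_of_unique_prime_dvd Nat.card_pos.ne'
        fun {d} hd1 hd2 => hall' d hd1 hd2))
    haveI := Fact.mk hr
    set M := centTor H r with hMdef
    obtain ⟨m₀, hm₀, hm₀1⟩ := exists_centTor_ne_one hnil (r := r) hrd
    haveI : IsMulCommutative M := ⟨⟨fun x y => Subtype.ext
      ((mem_centTor.1 y.2).2.2 x (mem_centTor.1 x.2).1).eq⟩⟩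
    have hMr : ∀ a : M, a ^ r = 1 := fun a => Subtype.ext (by
      rw [Subgroup.coe_pow, (mem_centTor.1 a.2).2.1, Subgroup.coe_one])
    set σ := quotAct H M (fun h hh x hx => (mem_centTor.1 hx).2.2 h hh) with hσ
    haveI := Fact.mk hr
    have hMp : ∀ a : M, a ^ p = 1 → a = 1 := fun a => pow_eq_one_iff_coprime hMr hp (Ne.symm hrp)
    have hfixp : ∀ γ : G ⧸ H, γ ≠ 1 → γ ^ p = 1 → ∀ a, σ γ a = a → a = 1 := fun γ hγ hγp =>
      hall r hr hrd γ hγ (by
        rw [orderOf_eq_prime hγp hγ]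
        exact fun h => hrp ((Nat.prime_dvd_prime_iff_eq hr hp).1 h))
    haveI : Nontrivial R := (Subgroup.nontrivial_iff_ne_bot _).2 fun e => by
      have hg1 := hpmem (g₀ : G ⧸ H) 1 (by rw [hord g₀ hg₀, hgo, pow_one])
      rw [e, Subgroup.mem_bot, QuotientGroup.eq_one_iff] at hg1
      exact hg₀ hg1
    haveI := hRp.center_nontrivial
    obtain ⟨c, hc⟩ := exists_ne (1 : Subgroup.center R)
    have hc1 : ((c : R) : G ⧸ H) ≠ 1 := fun e => hc (Subtype.ext (Subtype.ext e))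
    have hRc : ∀ e ∈ R, e ∈ Subgroup.zpowers ((c : R) : G ⧸ H) := fun e he =>
      mem_zpowers_of_fpf σ hp (hexp _ (c : R).2) hc1 (hexp e he)
        (congrArg Subtype.val (Subgroup.mem_center_iff.1 c.2 ⟨e, he⟩)) hfixp hMp (a₀ := ⟨m₀, hm₀⟩)
        fun e' => hm₀1 (congrArg Subtype.val e')
    set c' : G ⧸ H := ((c : R) : G ⧸ H) with hc'
    have hco : orderOf c' = p := orderOf_eq_prime (hexp _ (c : R).2) hc1
    obtain ⟨d, hd, hdp⟩ : ∃ d : G ⧸ H, (orderOf d).Prime ∧ orderOf d ≠ p := by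
      by_contra! hno
      apply hRtop
      rw [eq_top_iff]
      intro γ _
      refine hpmem γ _ (Nat.eq_prime_pow_of_unique_prime_dvd (orderOf_pos γ).ne' fun {s} hs hsd => ?_)
      obtain ⟨w, hw⟩ := hsd
      have hw0 : w ≠ 0 := fun e => by rw [e, mul_zero] at hw; exact (orderOf_pos γ).ne' hw
      have ho : orderOf (γ ^ w) = s := by
        rw [orderOf_pow_of_dvd hw0 (hw ▸ dvd_mul_left w s), hw,
          Nat.mul_div_cancel _ (Nat.pos_of_ne_zero hw0)]
      rw [← ho]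
      exact hno _ (ho.symm ▸ hs)
    have hdc : d * c' * d⁻¹ ∈ Subgroup.zpowers c' := hRc _ (hRn.conj_mem _ (c : R).2 d)
    have hncomm : ¬ Commute d c' := fun hcd => by
      have ho : orderOf (d * c') = orderOf d * p := by
        rw [hcd.orderOf_mul_eq_mul_orderOf_of_coprime (by
          rw [hco]; exact (Nat.coprime_primes hd hp).2 hdp), hco]
      obtain ⟨k, hk⟩ := hsf.mix (d * c') (ho ▸ dvd_mul_left p _)
      rw [ho] at hk
      exact hdp ((Nat.prime_dvd_prime_iff_eq hd hp).1 (hd.dvd_of_dvd_pow (hk ▸ dvd_mul_right _ p)))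
    obtain ⟨a, ha⟩ := exists_trace_ne σ hd (hco ▸ hp) hdc hncomm
      (hfixp c' hc1 (hexp _ (c : R).2)) (fun a h => hMp a (by rwa [hco] at h)) (a₀ := ⟨m₀, hm₀⟩)
      fun e' => hm₀1 (congrArg Subtype.val e')
    obtain ⟨g, rfl⟩ := QuotientGroup.mk_surjective d
    have hgH : g ∉ H := fun h => by
      rw [(QuotientGroup.eq_one_iff g).2 h, orderOf_one] at hd
      exact Nat.not_prime_one hd
    rw [hord g hgH] at ha
    exact ha (quotAct_pow (hpow hgH (mem_centTor.1 a.2).1) (pow_orderOf_eq_one g))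
  -- the preimage of `R` is the kernel of a Frobenius group
  haveI := hRn
  set V := R.comap (QuotientGroup.mk' H) with hV
  have hVi : V.index = R.index := R.index_comap_of_surjective (QuotientGroup.mk'_surjective H)
  have hVp : IsPGroup p V :=
    hRp.comap_of_ker_isPGroup _ (by rw [QuotientGroup.ker_mk']; exact hHp)
  have hcop : (Nat.card V).Coprime V.index := by
    obtain ⟨k, hk⟩ := hVp.exists_card_eq
    rw [hk, hVi]
    exact Nat.Coprime.pow_left _ (hp.coprime_iff_not_dvd.2 hRi)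
  obtain ⟨D, hD⟩ := Subgroup.exists_right_complement'_of_coprime hcop
  have hVbot : V ≠ ⊥ := fun e => hHbot (eq_bot_iff.2 fun h hh => by
    have hm : h ∈ V := by
      rw [hV, Subgroup.mem_comap, QuotientGroup.mk'_apply, (QuotientGroup.eq_one_iff h).2 hh]
      exact one_mem _
    rwa [e] at hm)
  have hDbot : D ≠ ⊥ := fun e => hRtop (by
    rw [e] at hD
    have hVtop : V = ⊤ := Subgroup.isComplement'_bot_right.mp hD
    rw [eq_top_iff]
    intro γ _
    obtain ⟨g, rfl⟩ := QuotientGroup.mk_surjective γ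
    have hm : g ∈ V := hVtop ▸ Subgroup.mem_top g
    exact hm)
  refine Or.inr ⟨D, CfsgLib.FrobCompl.isFrobeniusComplement_of_fpf hD hVbot hDbot ?_⟩
  intro d hd hd1 v hv hvd
  by_contra hv1
  have hdH : d ∉ H := fun h => hd1 (by
    have hdV : d ∈ V := by
      rw [hV, Subgroup.mem_comap, QuotientGroup.mk'_apply, (QuotientGroup.eq_one_iff d).2 h]
      exact one_mem _
    have hm : d ∈ V ⊓ D := ⟨hdV, hd⟩
    rwa [hD.disjoint.eq_bot, Subgroup.mem_bot] at hm)
  have hDp : ¬ p ∣ orderOf d := fun h => by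
    have hDc : Nat.card D = V.index := hD.symm.index_eq_card.symm
    have := h.trans ((Subgroup.orderOf_mk d hd).symm.dvd.trans
      (orderOf_dvd_natCard (⟨d, hd⟩ : D)))
    rw [hDc, hVi] at this
    exact hRi this
  obtain ⟨k, hk⟩ := IsPGroup.iff_orderOf.1 hVp ⟨v, hv⟩
  rw [Subgroup.orderOf_mk] at hk
  have hk0 : k ≠ 0 := fun e => hv1 (by rwa [e, pow_zero, orderOf_eq_one_iff] at hk)
  by_cases hvH : v ∈ H
  · have h := (hout hdH hvH hv1 hvd.symm).2
    rw [h, hk] at hDp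
    exact hDp (dvd_pow_self p hk0)
  have hcv : Commute (d : G ⧸ H) (v : G ⧸ H) := Commute.map hvd.symm (QuotientGroup.mk' H)
  have hcopdv : (orderOf (d : G ⧸ H)).Coprime (orderOf (v : G ⧸ H)) := by
    rw [hord d hdH, hord v hvH, hk]
    exact Nat.Coprime.pow_right _ (hp.coprime_iff_not_dvd.2 hDp).symm
  obtain ⟨l, hl⟩ := hsf.mix ((d : G ⧸ H) * (v : G ⧸ H)) (by
    rw [hcv.orderOf_mul_eq_mul_orderOf_of_coprime hcopdv, hord d hdH, hord v hvH, hk]
    exact Dvd.dvd.mul_left (dvd_pow_self p hk0) _)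
  rw [hcv.orderOf_mul_eq_mul_orderOf_of_coprime hcopdv, hord d hdH, hord v hvH, hk] at hl
  have hd1' : orderOf d ≠ 1 := fun e => hd1 (orderOf_eq_one_iff.1 e)
  obtain ⟨s, hs, hsd⟩ := Nat.exists_prime_and_dvd hd1'
  have hsp : s = p := (Nat.prime_dvd_prime_iff_eq hs hp).1
    (hs.dvd_of_dvd_pow (hl ▸ dvd_mul_of_dvd_left hsd _))
  exact hDp (hsp ▸ hsd)

end CfsgLib.Partition
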