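import Mathlib
import Cfsg.Prelude.Def_Solvable
import Cfsg.Agent.Lib.Partition.Basic
import Cfsg.Agent.Lib.Partition.Fpf
import Cfsg.Agent.Lib.Partition.NormalComp

/-!
# Partitioned groups with an abelian normal subgroup

Either the symmetric group of degree four, or a Hughes subgroup is proper, or a Frobenius group.
-/

set_option autoImplicit false
set_option linter.unusedSectionVars false
set_option linter.style.haveILetI false

open scoped BigOperators IsMulCommutative

namespace CfsgLib.Partition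

universe u

variable {G : Type u} [Group G] [Finite G]

/-- An element of `p`-power order fixes a non-trivial element of a normal `p`-subgroup. -/
theorem exists_commute_ne_one {p : ℕ} [Fact p.Prime] {N : Subgroup G} [hN : N.Normal]
    (hp : IsPGroup p N) (hbot : N ≠ ⊥) {x : G} {k : ℕ} (hx : orderOf x = p ^ k) :
    ∃ n ∈ N, n ≠ 1 ∧ Commute x n := by
  letI : MulAction (Subgroup.zpowers x) N :=
    MulAction.compHom N ((MulAut.conjNormal : G →* MulAut N).comp (Subgroup.zpowers x).subtype)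
  have hdvd : p ∣ Nat.card N :=
    (hp.card_eq_or_dvd).resolve_left fun h => hbot (Subgroup.eq_bot_of_card_eq N h)
  obtain ⟨b, hb, hb1⟩ := (IsPGroup.of_card (p := p) (n := k)
    (by rw [Nat.card_zpowers, hx] : Nat.card (Subgroup.zpowers x) = p ^ k))
      |>.exists_fixed_point_of_prime_dvd_card_of_fixed_point N hdvd
      (a := (1 : N)) fun e => map_one (MulAut.conjNormal (e : G))
  refine ⟨b, b.2, fun e => hb1 (Subtype.ext e.symm), ?_⟩
  have h : MulAut.conjNormal x b = b := hb ⟨x, Subgroup.mem_zpowers x⟩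
  have h' := congrArg Subtype.val h
  rw [MulAut.conjNormal_apply] at h'
  exact mul_inv_eq_iff_eq_mul.1 h'

/-- The situation: a normal elementary abelian subgroup in no component. -/
structure Spread (P : Part G) (p : ℕ) (N : Subgroup G) : Prop where
  prime : p.Prime
  normal : N.Normal
  comm : ∀ a ∈ N, ∀ b ∈ N, Commute a b
  exp : ∀ a ∈ N, a ^ p = 1
  spread : ∀ g : G, g ≠ 1 → ¬ N ≤ P.comp g

namespace Spread

variable {P : Part G} {p : ℕ} {N : Subgroup G}

theorem exists_ne_one (h : Spread P p N) [Nontrivial G] : ∃ a ∈ N, a ≠ 1 := by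
  obtain ⟨g, hg⟩ := exists_ne (1 : G)
  obtain ⟨a, ha, hag⟩ := SetLike.not_le_iff_exists.1 (h.spread g hg)
  exact ⟨a, ha, fun e => hag (e ▸ one_mem _)⟩

theorem pow_eq_one (h : Spread P p N) {c : G} (hc : ∀ a ∈ N, Commute a c) : c ^ p = 1 := by
  by_cases h1 : c = 1
  · rw [h1, one_pow]
  obtain ⟨a, ha, hac⟩ := SetLike.not_le_iff_exists.1 (h.spread c h1)
  have ha1 : a ≠ 1 := fun e => hac (e ▸ one_mem _)
  have ho := (P.orderOf_of_commute h1 ha1 (hc a ha).symm hac).2
  haveI := Fact.mk h.prime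
  rw [orderOf_eq_prime (h.exp a ha) ha1] at ho
  rw [ho, pow_orderOf_eq_one]

/-- Elements of order prime to `p` act without fixed points. -/
theorem eq_one_of_commute (h : Spread P p N) {d : G} (hd : d ≠ 1) (hp : ¬ p ∣ orderOf d) {n : G}
    (hn : n ∈ N) (hc : Commute d n) : n = 1 := by
  haveI := h.normal
  haveI : IsMulCommutative N := ⟨⟨fun a b => Subtype.ext (h.comm a a.2 b b.2).eq⟩⟩
  haveI := Fact.mk h.prime
  have hK : ∀ m ∈ N, Commute d m → m ∈ P.comp d := fun m hm hdm => by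
    by_cases hm1 : m = 1
    · exact hm1 ▸ one_mem _
    exact P.mem_of_commute hd hdm fun e => hp (by rw [← e, orderOf_eq_prime (h.exp m hm) hm1])
  by_contra hn1
  refine h.spread d hd fun a ha => ?_
  have hnorm : a ∈ Subgroup.normalizer (P.comp d : Set G) :=
    P.mem_normalizer_of_commute hd (hK n hn hc) hn1 (h.comm a ha n hn)
  set s : N := ∏ i ∈ Finset.range (orderOf d), MulAut.conjNormal (d ^ i) (⟨a, ha⟩ : N)
  have hs : Commute d (s : G) := by
    have hfix : MulAut.conjNormal d s = s :=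
      act_prod_range (MulAut.conjNormal : G →* MulAut N) (pow_orderOf_eq_one d) ⟨a, ha⟩
    have h' := congrArg Subtype.val hfix
    rw [MulAut.conjNormal_apply] at h'
    exact mul_inv_eq_iff_eq_mul.1 h'
  have hterm : ∀ i : ℕ, d ^ i * a * (d ^ i)⁻¹ * a⁻¹ ∈ P.comp d := fun i => by
    rw [show d ^ i * a * (d ^ i)⁻¹ * a⁻¹ = d ^ i * (a * (d ^ i)⁻¹ * a⁻¹) by group]
    exact mul_mem (P.pow_mem_comp d i)
      ((Subgroup.mem_normalizer_iff.1 hnorm _).1 (inv_mem (P.pow_mem_comp d i)))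
  have hkey : ∀ m : ℕ, ((∏ i ∈ Finset.range m, MulAut.conjNormal (d ^ i) (⟨a, ha⟩ : N) : N) : G) *
      (a ^ m)⁻¹ ∈ P.comp d := by
    intro m
    induction m with
    | zero => simp
    | succ m ih =>
      rw [Finset.prod_range_succ, Subgroup.coe_mul, MulAut.conjNormal_apply]
      have hcomm := h.comm _ (h.normal.conj_mem a ha (d ^ m)) _ (inv_mem (pow_mem ha (m + 1)))
      rw [mul_assoc, hcomm.eq, ← mul_assoc]
      rw [pow_succ' a m, mul_inv_rev]
      rw [show ∀ S : G, S * ((a ^ m)⁻¹ * a⁻¹) * (d ^ m * a * (d ^ m)⁻¹) =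
        S * (a ^ m)⁻¹ * (a⁻¹ * (d ^ m * a * (d ^ m)⁻¹)) from fun S => by group]
      refine mul_mem ih ?_
      rw [(h.comm _ (inv_mem ha) _ (h.normal.conj_mem a ha (d ^ m))).eq]
      exact hterm m
  have hpow : a ^ orderOf d ∈ P.comp d := by
    have h1 := mul_mem (inv_mem (hkey (orderOf d))) (hK _ s.2 hs)
    simpa [s, mul_assoc] using h1
  have hco : (orderOf d).Coprime (orderOf a) :=
    Nat.Coprime.coprime_dvd_right (orderOf_dvd_of_pow_eq_one (h.exp a ha))
      (h.prime.coprime_iff_not_dvd.2 hp).symm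
  obtain ⟨j, hj⟩ := exists_pow_eq_self_of_coprime hco
  exact hj ▸ pow_mem hpow j

theorem eq_one_of_mem_normalizer (h : Spread P p N) {d : G} (hd : d ≠ 1) (hp : ¬ p ∣ orderOf d)
    {n : G} (hn : n ∈ N) (hnK : n ∈ Subgroup.normalizer (P.comp d : Set G)) : n = 1 := by
  haveI := h.normal
  have hmap : ∀ a ∈ N, a ∈ Subgroup.normalizer (P.comp d : Set G) →
      d * a * d⁻¹ * a⁻¹ ∈ N ⊓ P.comp d := fun a ha haK => by
    refine Subgroup.mem_inf.2 ⟨mul_mem (h.normal.conj_mem a ha d) (inv_mem ha), ?_⟩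
    rw [show d * a * d⁻¹ * a⁻¹ = d * (a * d⁻¹ * a⁻¹) by group]
    exact mul_mem (P.mem d) ((Subgroup.mem_normalizer_iff.1 haK _).1 (inv_mem (P.mem d)))
  by_cases hM : ∃ m ∈ N ⊓ P.comp d, m ≠ 1
  · exfalso
    obtain ⟨m, ⟨hmN, hmK⟩, hm1⟩ := hM
    have hall : ∀ a ∈ N, a ∈ Subgroup.normalizer (P.comp d : Set G) := fun a ha =>
      P.mem_normalizer_of_commute hd hmK hm1 (h.comm a ha m hmN)
    let f : N → (N ⊓ P.comp d : Subgroup G) := fun a => ⟨_, hmap a a.2 (hall a a.2)⟩
    have hf : Function.Injective f := by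
      intro a b hab
      have e : d * (a : G) * d⁻¹ * (a : G)⁻¹ = d * b * d⁻¹ * (b : G)⁻¹ := congrArg Subtype.val hab
      refine Subtype.ext (inv_mul_eq_one.1
        (h.eq_one_of_commute hd hp (mul_mem (inv_mem b.2) a.2) ?_)).symm
      refine mul_inv_eq_iff_eq_mul.1 ?_
      calc d * ((b : G)⁻¹ * a) * d⁻¹
          = (d * b * d⁻¹)⁻¹ * (d * (a : G) * d⁻¹ * (a : G)⁻¹) * a := by group
        _ = (d * b * d⁻¹)⁻¹ * (d * b * d⁻¹ * (b : G)⁻¹) * a := by rw [e]
        _ = _ := by group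
    have hle : N ≤ N ⊓ P.comp d :=
      (Subgroup.eq_of_le_of_card_ge (inf_le_left : N ⊓ P.comp d ≤ N)
        (Nat.card_le_card_of_injective f hf)).ge
    exact h.spread d hd fun a ha => (hle ha).2
  push Not at hM
  have h1 := hM _ (hmap n hn hnK)
  rw [mul_inv_eq_one, mul_inv_eq_iff_eq_mul] at h1
  exact h.eq_one_of_commute hd hp hn h1

/-- A component with an element of order prime to `p` has none of order `p`. -/
theorem not_mem_comp (h : Spread P p N) {d : G} (hd : d ≠ 1) (hp : ¬ p ∣ orderOf d) {c : G}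
    (hc : orderOf c = p) : c ∉ P.comp d := by
  intro hcd
  haveI := h.normal
  haveI := Fact.mk h.prime
  have hc1 : c ≠ 1 := fun e => by rw [e, orderOf_one] at hc; exact h.prime.ne_one hc.symm
  have hbot : N ≠ ⊥ := fun e => h.spread d hd (e.le.trans bot_le)
  obtain ⟨n, hn, hn1, hcn⟩ := exists_commute_ne_one (k := 1)
    (show IsPGroup p N from fun a => ⟨1, Subtype.ext (by
      rw [pow_one, Subgroup.coe_pow, h.exp a a.2, Subgroup.coe_one])⟩) hbot (by rw [hc, pow_one])
  exact hn1 (h.eq_one_of_mem_normalizer hd hp hn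
    (P.mem_normalizer_of_commute hd hcd hc1 hcn.symm))

/-- No elements of mixed order. -/
theorem mix (h : Spread P p N) {g : G} (hg : p ∣ orderOf g) : ∃ k, orderOf g = p ^ k := by
  by_contra! hno
  have hex : ∃ q, q.Prime ∧ q ≠ p ∧ q ∣ orderOf g := by
    by_contra! hall
    exact hno _ (Nat.eq_prime_pow_of_unique_prime_dvd (orderOf_pos g).ne'
      fun {d} hd1 hd2 => by_contra fun hne => hall d hd1 hne hd2)
  obtain ⟨q, hq, hqp, hqd⟩ := hex
  obtain ⟨a, ha⟩ := hg
  obtain ⟨b, hb⟩ := hqd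
  have ha0 : a ≠ 0 := fun e => by rw [e, mul_zero] at ha; exact (orderOf_pos g).ne' ha
  have hb0 : b ≠ 0 := fun e => by rw [e, mul_zero] at hb; exact (orderOf_pos g).ne' hb
  have h1 : orderOf (g ^ a) = p := by
    rw [orderOf_pow_of_dvd ha0 (ha ▸ dvd_mul_left a p), ha,
      Nat.mul_div_cancel _ (Nat.pos_of_ne_zero ha0)]
  have h2 : orderOf (g ^ b) = q := by
    rw [orderOf_pow_of_dvd hb0 (hb ▸ dvd_mul_left b q), hb,
      Nat.mul_div_cancel _ (Nat.pos_of_ne_zero hb0)]
  have hd1 : g ^ b ≠ 1 := fun e => by rw [e, orderOf_one] at h2; exact hq.ne_one h2.symm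
  refine h.not_mem_comp hd1 (by
    rw [h2]; exact fun e => hqp ((Nat.prime_dvd_prime_iff_eq h.prime hq).1 e).symm) h1 ?_
  rw [P.comp_pow hd1]
  exact P.pow_mem_comp g a

theorem not_commute (h : Spread P p N) {d c : G} (hd : d ≠ 1) (hp : ¬ p ∣ orderOf d)
    (hc : orderOf c = p) : ¬ Commute d c := fun hdc =>
  h.not_mem_comp hd hp hc (P.mem_of_commute hd hdc fun e => hp (by rw [← e, hc]))

end Spread

/-- The automorphisms induced on a normal subgroup. -/
abbrev conjRange (N : Subgroup G) [N.Normal] : Subgroup (MulAut N) :=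
  (MulAut.conjNormal : G →* MulAut N).range

set_option maxHeartbeats 1000000 in
/-- **The symmetric group.** -/
theorem Spread.perm_four {P : Part G} {p : ℕ} {N : Subgroup G} [N.Normal] (h : Spread P p N)
    {x d : conjRange N} (hx : orderOf x = p) (hd : (orderOf d).Prime) (hdp : orderOf d ≠ p)
    (hn : x * d * x⁻¹ ∈ Subgroup.zpowers d) (hc : ¬ Commute x d) :
    Nonempty (G ≃* Equiv.Perm (Fin 4)) := by
  classical
  haveI := h.normal
  haveI := Fact.mk h.prime
  haveI : IsMulCommutative N := ⟨⟨fun a b => Subtype.ext (h.comm a a.2 b b.2).eq⟩⟩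
  set φ : G →* MulAut N := MulAut.conjNormal with hφ
  obtain ⟨g, hg⟩ := x.2
  obtain ⟨e, he⟩ := d.2
  have hx1 : x ≠ 1 := fun e' => hc (e' ▸ Commute.one_left d)
  have hd1 : d ≠ 1 := fun e' => hc (e' ▸ Commute.one_right x)
  haveI : Nontrivial G := ⟨⟨g, 1, fun e' => hx1 (Subtype.ext (by rw [← hg, e', map_one]; rfl))⟩⟩
  obtain ⟨a₀, ha₀, ha₀1⟩ := h.exists_ne_one
  -- trace of `x`
  have hNp : ∀ a : N, a ^ p = 1 := fun a => Subtype.ext (by
    rw [Subgroup.coe_pow, h.exp a a.2, Subgroup.coe_one])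
  have hdfix : ∀ a : N, (conjRange N).subtype d a = a → a = 1 := by
    intro a ha
    rw [Subgroup.subtype_apply, ← he] at ha
    have hc' : Commute e (a : G) := mul_inv_eq_iff_eq_mul.1
      (by have := congrArg Subtype.val ha; rwa [MulAut.conjNormal_apply] at this)
    have hod : orderOf d ∣ orderOf e := by
      rw [← Subgroup.orderOf_coe, ← he]
      exact orderOf_map_dvd φ e
    refine Subtype.ext (h.eq_one_of_commute (fun e' => hd1 (Subtype.ext (by
      rw [← he, e', map_one]; rfl))) (fun hp' => ?_) a.2 hc')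
    obtain ⟨k, hk⟩ := h.mix hp'
    rw [hk] at hod
    exact hdp ((Nat.prime_dvd_prime_iff_eq hd h.prime).1 (hd.dvd_of_dvd_pow hod))
  obtain ⟨a₁, ha₁⟩ := exists_trace_ne (conjRange N).subtype (hx ▸ h.prime) hd hn hc hdfix
    (fun a => pow_eq_one_iff_coprime hNp hd hdp) (a₀ := (⟨a₀, ha₀⟩ : N))
    fun e' => ha₀1 (congrArg Subtype.val e')
  rw [hx] at ha₁
  have ha₁' : ∏ i ∈ Finset.range p, φ (g ^ i) a₁ ≠ 1 := by
    intro hh
    apply ha₁
    rw [← hh]
    refine Finset.prod_congr rfl fun i _ => ?_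
    rw [map_pow φ, hg, Subgroup.subtype_apply, Subgroup.coe_pow]
  -- `g ^ p` centralizes `N`
  have hgp : ∀ a ∈ N, Commute a (g ^ p) := fun a ha => by
    have h1 : φ (g ^ p) = 1 := by
      rw [map_pow, hg, ← Subgroup.coe_pow, ← hx, pow_orderOf_eq_one, Subgroup.coe_one]
    have h2 := congrArg Subtype.val (DFunLike.congr_fun h1 (⟨a, ha⟩ : N))
    rw [MulAut.conjNormal_apply] at h2
    exact (mul_inv_eq_iff_eq_mul.1 h2).symm
  have hcp : (g ^ p) ^ p = 1 := h.pow_eq_one hgp
  let τ : N →* N :=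
    { toFun := fun a => ∏ i ∈ Finset.range p, φ (g ^ i) a
      map_one' := by simp
      map_mul' := fun a b => by simp only [map_mul, Finset.prod_mul_distrib] }
  have hpowτ : ∀ a : N, ((a : G) * g) ^ p = (τ a : G) * g ^ p := fun a => mul_pow_eq_prod g a p
  -- all those elements of order `p²` share a component
  have horder : ∀ {y : G}, y ^ p ≠ 1 → y ^ (p * p) = 1 → orderOf y = p ^ 2 := by
    intro y h1 h2
    rw [pow_two]
    obtain ⟨k, hk, hk2⟩ := (Nat.dvd_prime_pow h.prime).1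
      (orderOf_dvd_of_pow_eq_one (by rwa [pow_two] : y ^ p ^ 2 = 1))
    interval_cases k
    · exact absurd (by rw [pow_zero, orderOf_eq_one_iff] at hk2; rw [hk2, one_pow]) h1
    · exact absurd (by rw [pow_one] at hk2; rw [← hk2, pow_orderOf_eq_one]) h1
    · rw [hk2, pow_two]
  have hord2 : ∀ a : N, τ a * 1 = τ a ∧ (((a : G) * g) ^ p ≠ 1 → orderOf ((a : G) * g) = p ^ 2) :=
    fun a => ⟨mul_one _, fun h1 => horder h1 (by
      rw [pow_mul, hpowτ]
      rw [(hgp _ (τ a).2).mul_pow, h.exp _ (τ a).2, hcp, one_mul])⟩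
  have hfixK : ∀ a : N, ((a : G) * g) ^ p ≠ 1 → ∀ b ∈ N, Commute g b →
      b ∈ P.comp ((a : G) * g) := by
    intro a ha b hb hgb
    by_cases hb1 : b = 1
    · exact hb1 ▸ one_mem _
    refine P.mem_of_commute (fun e' => ha (by rw [e', one_pow]))
      ((h.comm a a.2 b hb).mul_left hgb) ?_
    rw [(hord2 a).2 ha, orderOf_eq_prime (h.exp b hb) hb1]
    have := h.prime.one_lt
    nlinarith
  have hτfix : ∀ a : N, Commute g (τ a : G) := fun a => by
    have h1 : φ g (τ a) = τ a := by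
      have hγ : φ g ^ p = 1 := by
        rw [hg, ← Subgroup.coe_pow, ← hx, pow_orderOf_eq_one, Subgroup.coe_one]
      have := act_prod_range (MonoidHom.id (MulAut N)) hγ a
      simpa [τ, map_pow] using this
    exact mul_inv_eq_iff_eq_mul.1
      (by have := congrArg Subtype.val h1; rwa [MulAut.conjNormal_apply] at this)
  obtain ⟨a₂, ha₂⟩ : ∃ a : N, ((a : G) * g) ^ p ≠ 1 := by
    by_contra! hall
    apply ha₁'
    have h1 := hall 1
    rw [Subgroup.coe_one, one_mul] at h1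
    exact Subtype.ext (show (τ a₁ : G) = 1 by rw [← hall a₁, hpowτ, h1, mul_one])
  set K := P.comp ((a₂ : G) * g) with hK
  have ha₂1 : (a₂ : G) * g ≠ 1 := fun e' => ha₂ (by rw [e', one_pow])
  have hsame : ∀ a : N, ((a : G) * g) ^ p ≠ 1 → P.comp ((a : G) * g) = K := fun a ha => by
    have hne : (τ a₁ : G) ≠ 1 := fun e' => ha₁' (Subtype.ext e')
    have h1 := hfixK a ha _ (τ a₁).2 (hτfix a₁)
    have h2 := hfixK a₂ ha₂ _ (τ a₁).2 (hτfix a₁)
    rw [← P.eq _ _ (fun e' => ha (by rw [e', one_pow])) hne h1, P.eq _ _ ha₂1 hne h2]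
  set L := K.subgroupOf N with hL
  have hLtop : L ≠ ⊤ := fun e' => h.spread _ ha₂1 (Subgroup.subgroupOf_eq_top.1 e')
  have hcoset : ∀ a : N, ((a : G) * g) ^ p ≠ 1 → a * a₂⁻¹ ∈ L := fun a ha => by
    rw [hL, Subgroup.mem_subgroupOf]
    have h1 : (a : G) * g ∈ K := hsame a ha ▸ P.mem _
    simpa [mul_assoc] using mul_mem h1 (inv_mem (P.mem ((a₂ : G) * g)))
  have hker : τ.ker ≤ L := fun k hk => by
    have h1 := hcoset (k * a₂) (by
      rw [hpowτ, map_mul, MonoidHom.mem_ker.1 hk, one_mul, ← hpowτ]; exact ha₂)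
    simpa using h1
  obtain ⟨a₃, ha₃L⟩ := SetLike.not_le_iff_exists.1 fun e' => hLtop (top_le_iff.1 e')
  have ha₃ : a₃ ∉ L := ha₃L.2
  -- the other coset
  obtain ⟨n₀, hn₀, hn₀L⟩ : ∃ a : N, ((a : G) * g) ^ p = 1 ∧ a * a₂⁻¹ ∉ L :=
    ⟨a₃ * a₂, by_contra fun h1 => ha₃ (by simpa using hcoset _ h1), by simpa using ha₃⟩
  have htwo : ∀ a : N, a * a₂⁻¹ ∈ L ∨ a * n₀⁻¹ ∈ τ.ker := fun a => by
    by_cases h1 : ((a : G) * g) ^ p = 1
    · right
      rw [MonoidHom.mem_ker, map_mul, map_inv, mul_inv_eq_one]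
      refine Subtype.ext (mul_right_cancel (b := g ^ p) ?_)
      rw [← hpowτ, ← hpowτ, h1, hn₀]
    · exact Or.inl (hcoset a h1)
  have hLker : L ≤ τ.ker := fun l hl => by
    rcases htwo (l * n₀) with h1 | h1
    · exact absurd (by
        rw [mul_assoc] at h1
        exact (Subgroup.mul_mem_cancel_left L hl).1 h1) hn₀L
    · simpa using h1
  have hLeq : τ.ker = L := le_antisymm hker hLker
  have hidx : L.index = 2 := by
    rw [Subgroup.index_eq_two_iff]
    set t : N := n₀ * a₂⁻¹ with ht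
    refine ⟨t, fun b => ?_⟩
    by_cases hb : b ∈ L
    · exact Or.inr ⟨hb, fun h2 => hn₀L ((Subgroup.mul_mem_cancel_left L hb).1 h2)⟩
    refine Or.inl ⟨?_, hb⟩
    have hb' : b * t⁻¹ ∈ L := by
      rcases htwo (b * a₂) with h1 | h1
      · exact absurd (by simpa using h1) hb
      · rw [hLeq] at h1
        rwa [show b * t⁻¹ = b * a₂ * n₀⁻¹ by rw [ht]; group]
    have ht2 : t * t ∈ L := by
      rcases htwo (t * t * a₂) with h1 | h1
      · simpa using h1
      · rw [hLeq] at h1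
        refine absurd ?_ hn₀L
        rwa [show t * t * a₂ * n₀⁻¹ = t by rw [ht]; group] at h1
    simpa [mul_assoc] using mul_mem hb' ht2
  have hp2 : p = 2 := by
    have h1 := L.index_dvd_card
    rw [hidx] at h1
    obtain ⟨k, hk⟩ := (IsPGroup.iff_card.1 (fun a : N => ⟨1, by rw [pow_one, hNp]⟩ : IsPGroup p N))
    rw [hk] at h1
    exact ((Nat.prime_dvd_prime_iff_eq Nat.prime_two h.prime).1 (Nat.prime_two.dvd_of_dvd_pow h1)).symm
  subst hp2
  -- an involution inducing `x`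
  set y := (n₀ : G) * g with hy
  have hyy : y * y = 1 := by rw [← pow_two]; exact hn₀
  have hyφ : φ y = x := by
    rw [hy, map_mul, hg]
    have : φ (n₀ : G) = 1 := MulEquiv.ext fun a => Subtype.ext (by
      rw [MulAut.conjNormal_apply, (h.comm _ n₀.2 _ a.2).eq, mul_inv_cancel_right]; rfl)
    rw [this, one_mul]
  set C := Subgroup.centralizer (N : Set G) with hC
  have hCmem : ∀ {c : G}, c ∈ C → ∀ a ∈ N, Commute a c := fun hc a ha =>
    Subgroup.mem_centralizer_iff.1 hc a ha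
  have hCexp : ∀ c ∈ C, c * c = 1 := fun c hc => by rw [← pow_two]; exact h.pow_eq_one (hCmem hc)
  have hCcomm : ∀ a ∈ C, ∀ b ∈ C, Commute a b := fun a ha b hb => by
    have h1 := hCexp _ (mul_mem ha hb)
    have h2 := eq_inv_of_mul_eq_one_left h1
    rw [mul_inv_rev, inv_eq_of_mul_eq_one_right (hCexp a ha),
      inv_eq_of_mul_eq_one_right (hCexp b hb)] at h2
    exact h2
  have hNC : N ≤ C := fun a ha => Subgroup.mem_centralizer_iff.2 fun b hb => h.comm b hb a ha
  have hCn : ∀ {c : G}, c ∈ C → y * c * y⁻¹ ∈ C := fun {c} hc => by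
    refine Subgroup.mem_centralizer_iff.2 fun b hb => ?_
    have h1 := (hCmem hc (y⁻¹ * b * y) (by simpa using h.normal.conj_mem b hb y⁻¹)).map (MulAut.conj y)
    simpa [mul_assoc] using h1.eq
  -- the element of order four and its component
  set n₁ : G := ((a₂ * n₀⁻¹ : N) : G) with hn₁
  have hn₁y : n₁ * y = (a₂ : G) * g := by
    rw [hn₁, hy, Subgroup.coe_mul, Subgroup.coe_inv]; group
  have hy4 : orderOf (n₁ * y) = 2 ^ 2 := hn₁y ▸ (hord2 a₂).2 ha₂
  have hu : ∀ {c : G}, c ∈ C → Commute y c → c ∈ K := fun {c} hc hyc => by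
    by_cases hc1 : c = 1
    · exact hc1 ▸ one_mem _
    rw [hK, ← hn₁y]
    refine P.mem_of_commute (hn₁y ▸ ha₂1) ((hCmem hc n₁ (SetLike.coe_mem _)).mul_left hyc) ?_
    rw [hy4, orderOf_eq_prime (by rw [pow_two]; exact hCexp c hc) hc1]
    norm_num
  let σ : C → C := fun c => ⟨(c : G) * (y * c * y⁻¹), mul_mem c.2 (hCn c.2)⟩
  have hσy : ∀ c : C, Commute y (σ c : G) := fun c => by
    refine mul_inv_eq_iff_eq_mul.1 ?_
    show y * ((c : G) * (y * c * y⁻¹)) * y⁻¹ = (c : G) * (y * c * y⁻¹)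
    rw [(hCcomm _ c.2 _ (hCn c.2)).eq]
    calc y * (y * c * y⁻¹ * c) * y⁻¹ = (y * y) * c * ((y * y)⁻¹ * (y * c * y⁻¹)) := by group
      _ = (c : G) * (y * c * y⁻¹) := by rw [hyy]; simp
      _ = _ := (hCcomm _ c.2 _ (hCn c.2)).eq
  have hC2 : ∀ c : C, ¬ Commute y c → (c : G) * n₁⁻¹ ∈ K := fun c hcy => by
    have hsq : ((c : G) * y) * (c * y) = σ c := by
      show _ = (c : G) * (y * c * y⁻¹)
      rw [inv_eq_of_mul_eq_one_right hyy]; group
    have hs1 : (σ c : G) ≠ 1 := fun e' => hcy (by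
      have h1 : y * c * y⁻¹ = (c : G)⁻¹ := eq_inv_of_mul_eq_one_right e'
      rw [inv_eq_of_mul_eq_one_right (hCexp c c.2), mul_inv_eq_iff_eq_mul] at h1
      exact h1)
    have hne : (c : G) * y ≠ 1 := fun e' => hs1 (by rw [← hsq, e', one_mul])
    have hmem : (σ c : G) ∈ P.comp ((c : G) * y) := hsq ▸ mul_mem (P.mem _) (P.mem _)
    have hKs : (σ c : G) ∈ K := hu (σ c).2 (hσy c)
    have hcK : P.comp ((c : G) * y) = K := by
      rw [← P.eq _ _ hne hs1 hmem, P.eq _ _ ha₂1 hs1 hKs]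
    have h1 : (c : G) * y ∈ K := hcK ▸ P.mem _
    have h2 : n₁ * y ∈ K := hn₁y ▸ P.mem _
    simpa [mul_assoc] using mul_mem h1 (inv_mem h2)
  set Cy := Subgroup.centralizer ({y} : Set G) with hCy
  have hCyle : K.subgroupOf C ≤ Cy.subgroupOf C := fun c hc => by
    rw [Subgroup.mem_subgroupOf, Subgroup.mem_centralizer_singleton_iff]
    by_contra hh
    have hcy : ¬ Commute y c := fun h' => hh h'.eq.symm
    have h1 := mul_mem (inv_mem (Subgroup.mem_subgroupOf.1 hc)) (hC2 c hcy)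
    rw [← mul_assoc, inv_mul_cancel, one_mul] at h1
    have h2 : a₂ * n₀⁻¹ ∈ L := Subgroup.mem_subgroupOf.2 (by simpa [hn₁] using inv_mem h1)
    exact hn₀L (by simpa using inv_mem h2)
  have hCidx : (Cy.subgroupOf C).index ≤ 2 := by
    by_cases h' : ∀ c : C, Commute y c
    · rw [show Cy.subgroupOf C = ⊤ from eq_top_iff.2 fun c _ => by
        rw [Subgroup.mem_subgroupOf, Subgroup.mem_centralizer_singleton_iff]; exact (h' c).eq.symm,
        Subgroup.index_top]
      exact one_le_two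
    push Not at h'
    obtain ⟨c₀, hc₀⟩ := h'
    refine le_of_eq ?_
    rw [Subgroup.index_eq_two_iff]
    refine ⟨c₀, fun c => ?_⟩
    have hnot : c₀ ∉ Cy.subgroupOf C := fun h'' => hc₀ (by
      rw [Subgroup.mem_subgroupOf, Subgroup.mem_centralizer_singleton_iff] at h''
      exact h''.symm)
    by_cases hc' : c ∈ Cy.subgroupOf C
    · exact Or.inr ⟨hc', fun h'' => hnot ((Subgroup.mul_mem_cancel_left _ hc').1 h'')⟩
    refine Or.inl ⟨hCyle ?_, hc'⟩
    have hcy : ¬ Commute y c := fun h'' => hc' (by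
      rw [Subgroup.mem_subgroupOf, Subgroup.mem_centralizer_singleton_iff]; exact h''.eq.symm)
    rw [Subgroup.mem_subgroupOf, Subgroup.coe_mul]
    have h1 := mul_mem (hC2 c hcy) (inv_mem (hC2 c₀ hc₀))
    rw [show (c : G) * n₁⁻¹ * ((c₀ : G) * n₁⁻¹)⁻¹ = (c : G) * (c₀ : G)⁻¹ by group,
      inv_eq_of_mul_eq_one_right (hCexp _ c₀.2)] at h1
    exact h1
  -- the element of order three
  set w := y * e * y⁻¹ * e⁻¹ with hw
  have hwφ : φ w = ((x * d * x⁻¹ * d⁻¹ : conjRange N) : MulAut N) := by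
    rw [hw, map_mul, map_mul, map_mul, map_inv, map_inv, hyφ, he]
    rfl
  have hwd : x * d * x⁻¹ * d⁻¹ ∈ Subgroup.zpowers d := mul_mem hn (inv_mem (Subgroup.mem_zpowers d))
  have hwd1 : x * d * x⁻¹ * d⁻¹ ≠ 1 := fun e' => hc (by
    rw [mul_inv_eq_one, mul_inv_eq_iff_eq_mul] at e'
    exact e')
  have hwo : orderOf (x * d * x⁻¹ * d⁻¹) = orderOf d :=
    ((Nat.dvd_prime hd).1 (orderOf_dvd_of_mem_zpowers hwd)).resolve_left
      fun e' => hwd1 (orderOf_eq_one_iff.1 e')
  have hw1 : w ≠ 1 := fun e' => hwd1 (Subtype.ext (by rw [← hwφ, e', map_one]; rfl))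
  have hwp : ¬ 2 ∣ orderOf w := fun h2 => by
    obtain ⟨k, hk⟩ := h.mix h2
    have h3 := orderOf_map_dvd φ w
    rw [hwφ, Subgroup.orderOf_coe, hwo, hk] at h3
    exact hdp ((Nat.prime_dvd_prime_iff_eq hd Nat.prime_two).1 (hd.dvd_of_dvd_pow h3))
  set Cy' := Subgroup.centralizer ({e * y * e⁻¹} : Set G) with hCy'
  have hCidx' : (Cy'.subgroupOf C).index ≤ 2 := by
    let κ : C ≃* C :=
      { toFun := fun c => ⟨e * c * e⁻¹, by
          refine Subgroup.mem_centralizer_iff.2 fun b hb => ?_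
          have h1 := (hCmem c.2 (e⁻¹ * b * e) (by simpa using h.normal.conj_mem b hb e⁻¹)).map
            (MulAut.conj e)
          simpa [mul_assoc] using h1.eq⟩
        invFun := fun c => ⟨e⁻¹ * c * e, by
          refine Subgroup.mem_centralizer_iff.2 fun b hb => ?_
          have h1 := (hCmem c.2 (e * b * e⁻¹) (h.normal.conj_mem b hb e)).map (MulAut.conj e⁻¹)
          simpa [mul_assoc] using h1.eq⟩
        left_inv := fun c => Subtype.ext (by group)
        right_inv := fun c => Subtype.ext (by group)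
        map_mul' := fun a b => Subtype.ext (by simp [mul_assoc]) }
    have : Cy'.subgroupOf C = (Cy.subgroupOf C).map κ.toMonoidHom := by
      ext c
      rw [Subgroup.mem_map_equiv, Subgroup.mem_subgroupOf, Subgroup.mem_subgroupOf,
        Subgroup.mem_centralizer_singleton_iff, Subgroup.mem_centralizer_singleton_iff]
      show _ ↔ e⁻¹ * (c : G) * e * y = y * (e⁻¹ * c * e)
      constructor
      · intro h1
        calc e⁻¹ * (c : G) * e * y = e⁻¹ * ((c : G) * (e * y * e⁻¹)) * e := by group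
          _ = _ := by rw [h1]; group
      · intro h1
        calc (c : G) * (e * y * e⁻¹) = e * (e⁻¹ * (c : G) * e * y) * e⁻¹ := by group
          _ = _ := by rw [h1]; group
    rw [this, Subgroup.index_map_of_bijective (f := κ.toMonoidHom) κ.bijective]
    exact hCidx
  have hinf : Cy.subgroupOf C ⊓ Cy'.subgroupOf C = ⊥ := by
    rw [eq_bot_iff]
    intro c hc'
    rw [Subgroup.mem_inf, Subgroup.mem_subgroupOf, Subgroup.mem_subgroupOf,
      Subgroup.mem_centralizer_singleton_iff, Subgroup.mem_centralizer_singleton_iff] at hc'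
    refine Subgroup.mem_bot.2 (by_contra fun hc1 => ?_)
    refine h.not_commute hw1 hwp (c := (c : G))
      (orderOf_eq_prime (by rw [pow_two]; exact hCexp c c.2) fun e' => hc1 (Subtype.ext e')) ?_
    have e1 : Commute y (c : G) := hc'.1.symm
    have e2 : Commute (e * y * e⁻¹) (c : G) := hc'.2.symm
    have : w = y * (e * y * e⁻¹)⁻¹ := by
      rw [hw, inv_eq_of_mul_eq_one_right hyy, mul_inv_rev, mul_inv_rev,
        inv_eq_of_mul_eq_one_right hyy, inv_inv]
      group
    rw [this]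
    exact e1.mul_left e2.inv_left
  have hC4 : Nat.card C ≤ 4 := by
    rw [← Subgroup.index_bot, ← hinf]
    exact (Subgroup.index_inf_le).trans (Nat.mul_le_mul hCidx hCidx')
  have hN4 : 4 ≤ Nat.card N := by
    obtain ⟨k, hk⟩ := IsPGroup.iff_card.1 (fun a : N => ⟨1, by rw [pow_one, hNp]⟩ : IsPGroup 2 N)
    rcases k with - | - | k
    · exfalso
      apply ha₀1
      have := Subgroup.eq_bot_of_card_eq N (by rw [hk, pow_zero])
      rw [this] at ha₀
      exact ha₀
    · exfalso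
      refine h.spread a₀ ha₀1 fun a ha => ?_
      by_cases ha1 : a = 1
      · exact ha1 ▸ one_mem _
      have h2 : Subgroup.zpowers a₀ = N := Subgroup.eq_of_le_of_card_ge (Subgroup.zpowers_le.2 ha₀)
        (by rw [hk, Nat.card_zpowers, orderOf_eq_prime (h.exp a₀ ha₀) ha₀1]; norm_num)
      rw [← h2] at ha
      exact (Subgroup.zpowers_le.2 (P.mem a₀)) ha
    · rw [hk]
      calc 4 = 2 ^ 2 := by norm_num
        _ ≤ 2 ^ (k + 1 + 1) := Nat.pow_le_pow_right two_pos (by omega)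
  have hCN : C = N := (Subgroup.eq_of_le_of_card_ge hNC (hC4.trans hN4)).symm
  have hNcard : Nat.card N = 4 := le_antisymm (hCN ▸ hC4) hN4
  -- `G ⧸ N` embeds in the automorphism group of a four-group
  have hkerφ : φ.ker = N := by
    refine Eq.trans ?_ hCN
    ext c
    rw [MonoidHom.mem_ker, hC, Subgroup.mem_centralizer_iff]
    constructor
    · intro h1 b hb
      have h2 := congrArg Subtype.val (DFunLike.congr_fun h1 (⟨b, hb⟩ : N))
      rw [MulAut.conjNormal_apply] at h2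
      exact (mul_inv_eq_iff_eq_mul.1 h2).symm
    · intro h1
      exact MulEquiv.ext fun a => Subtype.ext (by
        rw [MulAut.conjNormal_apply, ← h1 a a.2, mul_inv_cancel_right]; rfl)
  let S : Type u := {a : N // a ≠ 1}
  have hScard : Nat.card S = 3 := by
    haveI := Fintype.ofFinite N
    rw [Nat.card_eq_fintype_card]
    show Fintype.card {a : N // ¬ a = 1} = 3
    rw [Fintype.card_subtype_compl, Fintype.card_subtype_eq, ← Nat.card_eq_fintype_card, hNcard]
  let ι : conjRange N →* Equiv.Perm S :=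
    { toFun := fun γ => Equiv.subtypeEquiv (γ : MulAut N).toEquiv fun a => by
        show a ≠ 1 ↔ (γ : MulAut N) a ≠ 1
        exact not_congr (map_eq_one_iff (γ : MulAut N) (γ : MulAut N).injective).symm
      map_one' := Equiv.ext fun a => rfl
      map_mul' := fun γ δ => Equiv.ext fun a => rfl }
  have hι : Function.Injective ι := fun γ δ hγ => Subtype.ext (MulEquiv.ext fun a => by
    by_cases ha : a = 1
    · rw [ha, map_one, map_one]
    · exact congrArg Subtype.val (Equiv.ext_iff.1 hγ ⟨a, ha⟩))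
  have hdvd6 : Nat.card (conjRange N) ∣ 6 := by
    have h1 := Subgroup.card_dvd_of_injective ι hι
    rwa [Nat.card_perm, hScard, show Nat.factorial 3 = 6 from rfl] at h1
  have h2d : 2 * orderOf d ∣ Nat.card (conjRange N) :=
    ((Nat.coprime_primes Nat.prime_two hd).2 (Ne.symm hdp)).mul_dvd_of_dvd_of_dvd
      (hx ▸ orderOf_dvd_natCard x) (orderOf_dvd_natCard d)
  have hd3 : orderOf d = 3 := by
    have h1 := Nat.le_of_dvd (by norm_num) (h2d.trans hdvd6)
    have := hd.two_le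
    omega
  have h6 : Nat.card (conjRange N) = 6 :=
    Nat.dvd_antisymm hdvd6 (by rwa [hd3] at h2d)
  have h24 : Nat.card G = 24 := by
    rw [← N.card_mul_index, ← hkerφ, φ.ker.card_mul_index, ← φ.ker.card_mul_index,
      Subgroup.index_ker, hkerφ, hNcard, h6]
  haveI : Fact (Nat.Prime 3) := ⟨Nat.prime_three⟩
  -- the action on the Sylow `3`-subgroups
  have hnorm : ∀ Q : Sylow 3 G, ∀ n ∈ N, n ∈ Subgroup.normalizer ((Q : Subgroup G) : Set G) →
      n = 1 := by
    intro Q n hn hnQ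
    by_contra hn1
    obtain ⟨v, hv⟩ := exists_prime_orderOf_dvd_card' (G := (Q : Subgroup G)) 3
      (Q.dvd_card_of_dvd_card (by rw [h24]; norm_num))
    rw [← Subgroup.orderOf_coe] at hv
    refine hn1 (h.eq_one_of_commute (d := (v : G)) (fun e' => by
      rw [e', orderOf_one] at hv; exact absurd hv (by norm_num)) (by rw [hv]; norm_num) hn ?_)
    have h1 : n * (v : G) * n⁻¹ * (v : G)⁻¹ = 1 := by
      have hQ : n * (v : G) * n⁻¹ * (v : G)⁻¹ ∈ (Q : Subgroup G) :=
        mul_mem ((Subgroup.mem_normalizer_iff.1 hnQ _).1 v.2) (inv_mem v.2)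
      have hN : n * (v : G) * n⁻¹ * (v : G)⁻¹ ∈ N := by
        rw [show n * (v : G) * n⁻¹ * (v : G)⁻¹ = n * ((v : G) * n⁻¹ * (v : G)⁻¹) by group]
        exact mul_mem hn (h.normal.conj_mem _ (inv_mem hn) _)
      obtain ⟨k, hk⟩ := IsPGroup.iff_orderOf.1 Q.2 ⟨_, hQ⟩
      rw [Subgroup.orderOf_mk] at hk
      have h4 := orderOf_dvd_of_pow_eq_one (h.exp _ hN)
      rw [hk] at h4
      rcases k with - | k
      · rw [pow_zero, orderOf_eq_one_iff] at hk; exact hk
      · exact absurd ((dvd_pow_self 3 k.succ_ne_zero).trans h4) (by norm_num)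
    rw [mul_inv_eq_one, mul_inv_eq_iff_eq_mul] at h1
    exact h1.symm
  set ψ := MulAction.toPermHom G (Sylow 3 G)
  have hψ : Function.Injective ψ := by
    refine (MonoidHom.ker_eq_bot_iff ψ).1 (eq_bot_iff.2 fun k hk => ?_)
    have hkQ : ∀ Q : Sylow 3 G, k ∈ Subgroup.normalizer ((Q : Subgroup G) : Set G) := fun Q =>
      Sylow.smul_eq_iff_mem_normalizer.1 (Equiv.ext_iff.1 (MonoidHom.mem_ker.1 hk) Q)
    have hkC : k ∈ C := Subgroup.mem_centralizer_iff.2 fun a ha => by
      have hQ : a * k * a⁻¹ * k⁻¹ ∈ ψ.ker :=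
        mul_mem ((inferInstance : ψ.ker.Normal).conj_mem k hk a) (inv_mem hk)
      have hN : a * k * a⁻¹ * k⁻¹ ∈ N := by
        rw [show a * k * a⁻¹ * k⁻¹ = a * (k * a⁻¹ * k⁻¹) by group]
        exact mul_mem ha (h.normal.conj_mem _ (inv_mem ha) _)
      obtain ⟨Q⟩ : Nonempty (Sylow 3 G) := inferInstance
      have h1 := hnorm Q _ hN
        (Sylow.smul_eq_iff_mem_normalizer.1 (Equiv.ext_iff.1 (MonoidHom.mem_ker.1 hQ) Q))
      rw [mul_inv_eq_one, mul_inv_eq_iff_eq_mul] at h1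
      exact h1
    obtain ⟨Q⟩ : Nonempty (Sylow 3 G) := inferInstance
    exact Subgroup.mem_bot.2 (hnorm Q k (hCN ▸ hkC) (hkQ Q))
  have hcardS : Nat.card (Sylow 3 G) = 4 := by
    obtain ⟨Q⟩ : Nonempty (Sylow 3 G) := inferInstance
    have hdvd : Nat.card (Subgroup.normalizer ((Q : Subgroup G) : Set G)) ∣ 6 := by
      rw [← h6]
      refine Subgroup.card_dvd_of_injective
        (φ.rangeRestrict.comp (Subgroup.normalizer ((Q : Subgroup G) : Set G)).subtype) ?_
      refine (MonoidHom.ker_eq_bot_iff _).1 (eq_bot_iff.2 fun k hk => Subgroup.mem_bot.2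
        (Subtype.ext (hnorm Q k ?_ k.2)))
      rw [← hkerφ, MonoidHom.mem_ker]
      exact congrArg Subtype.val (MonoidHom.mem_ker.1 hk)
    have hidx : Nat.card (Sylow 3 G) = (Subgroup.normalizer ((Q : Subgroup G) : Set G)).index :=
      Sylow.card_eq_index_normalizer Q
    have hmul := (Subgroup.normalizer ((Q : Subgroup G) : Set G)).card_mul_index
    rw [← hidx, h24] at hmul
    have hmod := card_sylow_modEq_one 3 G
    have hle := Nat.le_of_dvd (by norm_num) hdvd
    generalize Nat.card (Subgroup.normalizer ((Q : Subgroup G) : Set G)) = m at hle hmul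
    generalize Nat.card (Sylow 3 G) = n at hmod hmul ⊢
    unfold Nat.ModEq at hmod
    interval_cases m <;> omega
  have hbij : Function.Bijective ψ :=
    (Nat.bijective_iff_injective_and_card _).2 ⟨hψ, by rw [h24, Nat.card_perm, hcardS]; rfl⟩
  exact ⟨(MulEquiv.ofBijective ψ hbij).trans (Finite.equivFinOfCardEq hcardS).permCongrHom⟩

/-- **Groups with an abelian normal subgroup.** -/
theorem abelian_normal (P : Part G) {p : ℕ} (hp : p.Prime) {N₀ : Subgroup G} (hn₀ : N₀.Normal)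
    (hbot₀ : N₀ ≠ ⊥) (hc₀ : ∀ a ∈ N₀, ∀ b ∈ N₀, Commute a b) (he₀ : ∀ a ∈ N₀, a ^ p = 1) :
    Nonempty (G ≃* Equiv.Perm (Fin 4)) ∨ HughesOrFrob G := by
  classical
  have hex : ∃ n, ∃ N : Subgroup G, N.Normal ∧ N ≠ ⊥ ∧ (∀ a ∈ N, ∀ b ∈ N, Commute a b) ∧
      (∀ a ∈ N, a ^ p = 1) ∧ Nat.card N = n := ⟨_, N₀, hn₀, hbot₀, hc₀, he₀, rfl⟩
  obtain ⟨N, hNn, hbot, hNc, hNe, hcard⟩ := Nat.find_spec hex
  have hmin : ∀ M : Subgroup G, M.Normal → M ≠ ⊥ → M ≤ N → M = N := fun M hM hMb hle =>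
    Subgroup.eq_of_le_of_card_ge hle (hcard ▸ Nat.find_min' hex ⟨M, hM, hMb,
      fun a ha b hb => hNc a (hle ha) b (hle hb), fun a ha => hNe a (hle ha), rfl⟩)
  haveI := Fact.mk hp
  by_cases hspread : ∃ g : G, g ≠ 1 ∧ N ≤ P.comp g
  · obtain ⟨g, hg, hle⟩ := hspread
    obtain ⟨⟨n, hn⟩, hn1⟩ := Subgroup.ne_bot_iff_exists_ne_one.1 hbot
    have hn1' : n ≠ 1 := fun e => hn1 (Subtype.ext e)
    refine Or.inr (normal_comp P hg (Subgroup.normalizer_eq_top_iff.1 (eq_top_iff.2 fun x _ =>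
      P.mem_normalizer hg (hle hn) hn1' (hle (hNn.conj_mem n hn x))))).2
  push Not at hspread
  haveI := hNn
  have h : Spread P p N := ⟨hp, hNn, hNc, hNe, hspread⟩
  haveI : IsMulCommutative N := ⟨⟨fun a b => Subtype.ext (hNc a a.2 b b.2).eq⟩⟩
  set φ : G →* MulAut N := MulAut.conjNormal with hφ
  obtain ⟨⟨a₀, ha₀⟩, ha₀1⟩ := Subgroup.ne_bot_iff_exists_ne_one.1 hbot
  have hNp : ∀ a : N, a ^ p = 1 := fun a => Subtype.ext (by
    rw [Subgroup.coe_pow, hNe a a.2, Subgroup.coe_one])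
  by_cases hnn : ∃ x d : conjRange N, orderOf x = p ∧ (orderOf d).Prime ∧ orderOf d ≠ p ∧
      x * d * x⁻¹ ∈ Subgroup.zpowers d ∧ ¬ Commute x d
  · obtain ⟨x, d, hx, hd, hdp, hn, hc⟩ := hnn
    exact Or.inl (h.perm_four hx hd hdp hn hc)
  push Not at hnn
  refine Or.inr ?_
  have hpel : ∀ g : G, φ g ≠ 1 → (p ∣ orderOf (φ.rangeRestrict g) ↔ p ∣ orderOf g) := by
    intro g hg
    refine ⟨fun hh => hh.trans (orderOf_map_dvd φ.rangeRestrict g), fun hh => ?_⟩
    obtain ⟨k, hk⟩ := h.mix hh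
    obtain ⟨l, -, hl⟩ := (Nat.dvd_prime_pow hp).1 (hk ▸ orderOf_map_dvd φ.rangeRestrict g)
    rw [hl]
    exact dvd_pow_self p fun e => hg (by
      rw [e, pow_zero, orderOf_eq_one_iff] at hl
      exact congrArg Subtype.val hl)
  have hsf : SemiFpf p (conjRange N).subtype := by
    refine ⟨fun γ hγ hnd a ha => ?_, fun γ hd => ?_, fun x d hx hd hdp hn hc =>
      hc (hnn x d hx hd hdp hn)⟩
    · obtain ⟨g, hg⟩ := φ.rangeRestrict_surjective γ
      subst hg
      have hg1 : φ g ≠ 1 := fun e => hγ (Subtype.ext e)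
      have hc : Commute g (a : G) := by
        have h' : φ g a = a := ha
        have h'' := congrArg Subtype.val h'
        rw [hφ, MulAut.conjNormal_apply] at h''
        exact mul_inv_eq_iff_eq_mul.1 h''
      exact Subtype.ext (h.eq_one_of_commute (fun e => hg1 (by rw [e, map_one]))
        (fun hh => hnd ((hpel g hg1).2 hh)) a.2 hc)
    · obtain ⟨g, hg⟩ := φ.rangeRestrict_surjective γ
      subst hg
      obtain ⟨k, hk⟩ := h.mix (hd.trans (orderOf_map_dvd φ.rangeRestrict g))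
      obtain ⟨l, -, hl⟩ := (Nat.dvd_prime_pow hp).1 (hk ▸ orderOf_map_dvd φ.rangeRestrict g)
      exact ⟨l, hl⟩
  obtain ⟨R, hRn, hRp, hRi⟩ := SemiFpf.exists_normal hNp (a₀ := (⟨a₀, ha₀⟩ : N)) ha₀1 hsf
  haveI := hRn
  -- `R` is trivial by minimality
  set V := R.comap φ.rangeRestrict with hV
  haveI hVn : V.Normal := by rw [hV]; infer_instance
  have hRbot : R = ⊥ := by
    letI : MulAction R N :=
      MulAction.compHom N ((conjRange N).subtype.comp R.subtype)
    have hdvd : p ∣ Nat.card N :=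
      ((show IsPGroup p N from fun a => ⟨1, by rw [pow_one, hNp]⟩).card_eq_or_dvd).resolve_left
        fun h' => hbot (Subgroup.eq_bot_of_card_eq N h')
    obtain ⟨b, hb, hb1⟩ := hRp.exists_fixed_point_of_prime_dvd_card_of_fixed_point N hdvd
      (a := (1 : N)) fun e => map_one ((e : conjRange N) : MulAut N)
    have hbV : (b : G) ∈ N ⊓ Subgroup.centralizer (V : Set G) := by
      refine Subgroup.mem_inf.2 ⟨b.2, Subgroup.mem_centralizer_iff.2 fun v hv => ?_⟩
      have h' : φ v b = b := hb ⟨φ.rangeRestrict v, hv⟩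
      have h'' := congrArg Subtype.val h'
      rw [hφ, MulAut.conjNormal_apply] at h''
      exact mul_inv_eq_iff_eq_mul.1 h''
    have hW := hmin (N ⊓ Subgroup.centralizer (V : Set G)) inferInstance
      (fun e => hb1 (Subtype.ext (Subgroup.mem_bot.1 (e ▸ hbV)).symm)) inf_le_left
    rw [eq_bot_iff]
    intro γ hγ
    obtain ⟨v, hv⟩ := φ.rangeRestrict_surjective γ
    subst hv
    refine Subgroup.mem_bot.2 (Subtype.ext (MulEquiv.ext fun a => Subtype.ext ?_))
    have ha' : (a : G) ∈ N ⊓ Subgroup.centralizer (V : Set G) := hW.symm ▸ a.2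
    show ((φ v a : N) : G) = a
    rw [hφ, MulAut.conjNormal_apply, Subgroup.mem_centralizer_iff.1 ha'.2 v hγ,
      mul_inv_cancel_right]
  -- the centralizer is a normal Sylow subgroup of exponent `p`
  set C := φ.ker with hC
  have hCexp : ∀ c ∈ C, c ^ p = 1 := fun c hc => h.pow_eq_one fun a ha => by
    have h' := congrArg Subtype.val (DFunLike.congr_fun (MonoidHom.mem_ker.1 hc) (⟨a, ha⟩ : N))
    rw [hφ, MulAut.conjNormal_apply] at h'
    exact (mul_inv_eq_iff_eq_mul.1 h').symm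
  have hCi : ¬ p ∣ C.index := by
    rw [hC, Subgroup.index_ker]
    rwa [hRbot, Subgroup.index_bot] at hRi
  have hCp : IsPGroup p C := fun c => ⟨1, Subtype.ext (by
    rw [pow_one, Subgroup.coe_pow, hCexp c c.2, Subgroup.coe_one])⟩
  have hcop : (Nat.card C).Coprime C.index := by
    obtain ⟨k, hk⟩ := hCp.exists_card_eq
    rw [hk]
    exact Nat.Coprime.pow_left _ (hp.coprime_iff_not_dvd.2 hCi)
  obtain ⟨D, hD⟩ := Subgroup.exists_right_complement'_of_coprime hcop
  by_cases hDbot : D = ⊥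
  · rw [hDbot] at hD
    have hCtop : C = ⊤ := Subgroup.isComplement'_bot_right.mp hD
    refine Or.inl ⟨p, hp, ?_⟩
    rw [show {g : G | g ^ p ≠ 1} = ∅ from Set.eq_empty_iff_forall_notMem.2 fun g hg =>
      hg (hCexp g (hCtop ▸ Subgroup.mem_top g)), Subgroup.closure_empty]
    exact fun e => ha₀1 (Subtype.ext (Subgroup.mem_bot.1 (e ▸ Subgroup.mem_top a₀)))
  have hNC : N ≤ C := fun a ha => MonoidHom.mem_ker.2 (MulEquiv.ext fun b => Subtype.ext (by
    rw [hφ, MulAut.conjNormal_apply, (hNc a ha b b.2).eq, mul_inv_cancel_right]; rfl))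
  have hCbot : C ≠ ⊥ := fun e => hbot (eq_bot_iff.2 (hNC.trans e.le))
  refine Or.inr ⟨D, CfsgLib.FrobCompl.isFrobeniusComplement_of_fpf hD hCbot hDbot ?_⟩
  intro d hd hd1 c hc hcd
  by_contra hc1
  refine h.not_commute hd1 (fun hh => hCi ?_) (orderOf_eq_prime (hCexp c hc) hc1) hcd.symm
  rw [hD.symm.index_eq_card]
  exact hh.trans ((Subgroup.orderOf_mk d hd).symm.dvd.trans
    (orderOf_dvd_natCard (⟨d, hd⟩ : D)))

end CfsgLib.Partition
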