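import Mathlib
import Cfsg.Prelude.Def_Solvable
import Cfsg.Agent.Lib.Partition.Basic
import Cfsg.Agent.Lib.Partition.NormalComp
import Cfsg.Agent.Lib.Partition.Abelian
import Cfsg.Agent.Lib.Layer.Radical
import Cfsg.Agent.Lib.Perm.Isospectral
import Cfsg.Agent.S0205

/-!
# Partitioned groups without solvable normal subgroups

The components are nilpotent, there is a unique minimal normal subgroup, it is simple and its
centralizer is trivial.
-/

set_option autoImplicit false
set_option linter.unusedSectionVars false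
set_option linter.style.haveILetI false

open scoped Pointwise

namespace CfsgLib.Partition

universe u

variable {G : Type u} [Group G] [Finite G]

/-- What remains after the solvable cases and the Frobenius groups. -/
structure Hyp (P : Part G) : Prop where
  rad : ∀ M : Subgroup G, M.Normal → Group.IsSolvable M → M = ⊥
  nil : ∀ g, g ≠ 1 → Group.IsNilpotent (P.comp g)
  norm : ∀ g, g ≠ 1 → Subgroup.normalizer (P.comp g : Set G) ≠ P.comp g

/-- The components of a group without self-normalizing components are nilpotent. -/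
theorem nilpotent_of_norm (P : Part G) {g : G} (hg : g ≠ 1)
    (hne : Subgroup.normalizer (P.comp g : Set G) ≠ P.comp g) : Group.IsNilpotent (P.comp g) := by
  set K := P.comp g with hK
  set M := Subgroup.normalizer (K : Set G) with hM
  have hKM : K ≤ M := Subgroup.le_normalizer
  have hres : ∀ y ∈ M, y ≠ 1 → ¬ M ≤ P.comp y := fun y _ hy hle => by
    have h1 : g ∈ P.comp y := hle (hKM (P.mem g))
    have h2 : P.comp g = P.comp y := P.eq y g hy hg h1
    exact hne (le_antisymm (hle.trans h2.ge) hKM)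
  have h1 : (⟨g, hKM (P.mem g)⟩ : M) ≠ 1 := fun e => hg (congrArg Subtype.val e)
  obtain ⟨hn, -⟩ := normal_comp (P.restrict M hres) h1 (by
    show (K.subgroupOf M).Normal
    rw [hM]
    exact Subgroup.normal_in_normalizer)
  haveI : Group.IsNilpotent (K.subgroupOf M) := hn
  exact Group.nilpotent_of_mulEquiv (Subgroup.subgroupOfEquivOfLe hKM)

/-- The solvable cases and the Frobenius groups, or `Hyp`. -/
theorem reduce (P : Part G) :
    Nonempty (G ≃* Equiv.Perm (Fin 4)) ∨ HughesOrFrob G ∨ Hyp P := by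
  classical
  by_cases hr : ∀ M : Subgroup G, M.Normal → Group.IsSolvable M → M = ⊥
  swap
  · push Not at hr
    obtain ⟨M, hM, hs, hne⟩ := hr
    haveI := hM
    haveI := hs
    obtain ⟨V, p, hp, hV, hVne, hVc, hVe⟩ := CfsgLib.Isospectral.exists_elementary M hne
    rcases abelian_normal P hp hV hVne (fun a ha b hb => hVc a ha b hb) hVe with h | h
    · exact Or.inl h
    · exact Or.inr (Or.inl h)
  by_cases hn : ∀ g : G, g ≠ 1 → Subgroup.normalizer (P.comp g : Set G) ≠ P.comp g
  · exact Or.inr (Or.inr ⟨hr, fun g hg => nilpotent_of_norm P hg (hn g hg), hn⟩)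
  push Not at hn
  obtain ⟨g, hg, hK⟩ := hn
  refine Or.inr (Or.inl (Or.inr ⟨P.comp g, fun e => hg ?_, P.proper g hg, fun x hx => ?_⟩))
  · have h := P.mem g
    rwa [e, Subgroup.mem_bot] at h
  rw [eq_bot_iff]
  intro y hy
  obtain ⟨hy1, hy2⟩ := Subgroup.mem_inf.1 hy
  rw [Subgroup.mem_pointwise_smul_iff_inv_smul_mem] at hy2
  have hy3 : x⁻¹ * y * x⁻¹⁻¹ ∈ P.comp g := by simpa [MulAut.smul_def, mul_assoc] using hy2
  refine Subgroup.mem_bot.2 (P.eq_one_of_conj_mem hg hy1 hy3 fun hn => hx ?_)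
  rw [hK] at hn
  exact inv_mem_iff.1 hn

/-- Two non-trivial normal subgroups meet. -/
theorem inf_ne_bot (P : Part G) (hrad : ∀ M : Subgroup G, M.Normal → Group.IsSolvable M → M = ⊥)
    (hnil : ∀ g, g ≠ 1 → Group.IsNilpotent (P.comp g)) {A B : Subgroup G} [hA : A.Normal] [hB : B.Normal]
    (hAb : A ≠ ⊥) (hBb : B ≠ ⊥) : A ⊓ B ≠ ⊥ := by
  classical
  haveI : Fact (Nat.Prime 2) := ⟨Nat.prime_two⟩
  intro h
  have hdis : Disjoint A B := disjoint_iff.2 h
  obtain ⟨⟨b, hb⟩, hbo⟩ := exists_prime_orderOf_dvd_card' (G := B) 2 (by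
    by_contra h2
    refine hBb (hrad B hB (Cfsg.Agent.S0205.result ?_))
    exact Nat.odd_iff.2 (Nat.two_dvd_ne_zero.1 h2))
  rw [Subgroup.orderOf_mk] at hbo
  have hb1 : b ≠ 1 := fun e => by rw [e, orderOf_one] at hbo; norm_num at hbo
  set W := Subgroup.closure {a : G | a ∈ A ∧ (orderOf a).Prime ∧ orderOf a ≠ 2} with hW
  have hWA : W ≤ A := (Subgroup.closure_le A).2 fun a ha => ha.1
  have hWK : W ≤ P.comp b := (Subgroup.closure_le _).2 fun a ha => by
    refine P.mem_of_commute hb1 (Subgroup.commute_of_normal_of_disjoint _ _ hA hB hdis a b ha.1 hb).symm ?_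
    rw [hbo]
    exact ha.2.2
  haveI hWn : W.Normal := by
    refine ⟨fun x hx g => ?_⟩
    have h1 : W.map (MulAut.conj g).toMonoidHom ≤ W := by
      rw [hW, MonoidHom.map_closure]
      refine Subgroup.closure_mono ?_
      rintro _ ⟨a, ha, rfl⟩
      refine ⟨hA.conj_mem a ha.1 g, ?_⟩
      have : orderOf ((MulAut.conj g).toMonoidHom a) = orderOf a :=
        orderOf_injective _ (MulAut.conj g).injective a
      rw [this]
      exact ha.2
    exact h1 ⟨x, hx, rfl⟩
  have hWbot : W = ⊥ := by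
    refine hrad W hWn ?_
    haveI := hnil b hb1
    haveI : Group.IsNilpotent W :=
      Subgroup.isNilpotent_of_ker_le_center (Subgroup.inclusion hWK)
        (by rw [(MonoidHom.ker_eq_bot_iff _).2 (Subgroup.inclusion_injective hWK)]; exact bot_le)
    infer_instance
  -- so `A` is a `2`-group
  refine hAb (hrad A hA ?_)
  have hA2 : IsPGroup 2 A := by
    refine IsPGroup.of_card (Nat.eq_prime_pow_of_unique_prime_dvd Nat.card_pos.ne'
      fun {q} hq hqd => by_contra fun hq2 => ?_)
    haveI := Fact.mk hq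
    obtain ⟨⟨a, ha⟩, hao⟩ := exists_prime_orderOf_dvd_card' (G := A) q hqd
    rw [Subgroup.orderOf_mk] at hao
    have : a ∈ W := Subgroup.subset_closure ⟨ha, hao ▸ hq, hao ▸ hq2⟩
    rw [hWbot, Subgroup.mem_bot] at this
    rw [this, orderOf_one] at hao
    exact hq.ne_one hao.symm
  haveI := hA2.isNilpotent
  infer_instance

namespace Hyp

variable {P : Part G}

theorem even_card (h : Hyp P) [Nontrivial G] : 2 ∣ Nat.card G := by
  by_contra h2
  haveI := Cfsg.Agent.S0205.result (G := G) (Nat.odd_iff.2 (Nat.two_dvd_ne_zero.1 h2))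
  exact bot_ne_top (h.rad ⊤ inferInstance inferInstance).symm

theorem odd_normal (h : Hyp P) {M : Subgroup G} [hM : M.Normal] (hodd : Odd (Nat.card M)) : M = ⊥ :=
  h.rad M hM (Cfsg.Agent.S0205.result hodd)

theorem centralizer_eq_bot (h : Hyp P) {N : Subgroup G} [hN : N.Normal] (hbot : N ≠ ⊥) :
    Subgroup.centralizer (N : Set G) = ⊥ := by
  by_contra hne
  refine inf_ne_bot P h.rad h.nil hbot hne (h.rad _ inferInstance ?_)
  exact Group.isSolvable_of_comm fun a b => Subtype.ext
    (Subgroup.mem_centralizer_iff.1 b.2.2 a a.2.1)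

/-- A simple normal subgroup. -/
theorem exists_simple (h : Hyp P) [Nontrivial G] :
    ∃ N : Subgroup G, N.Normal ∧ N ≠ ⊥ ∧ IsSimpleGroup N ∧ ¬ Group.IsSolvable N := by
  classical
  have hex : ∃ n, ∃ N : Subgroup G, N.Normal ∧ N ≠ ⊥ ∧ Nat.card N = n :=
    ⟨_, ⊤, inferInstance, top_ne_bot, rfl⟩
  obtain ⟨N, hN, hbot, hcard⟩ := Nat.find_spec hex
  have hmin : ∀ M : Subgroup G, M.Normal → M ≠ ⊥ → M ≤ N → M = N := fun M hM hMb hle =>
    Subgroup.eq_of_le_of_card_ge hle (hcard ▸ Nat.find_min' hex ⟨M, hM, hMb, rfl⟩)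
  haveI := hN
  have hns : ¬ Group.IsSolvable N := fun hs => hbot (h.rad N hN hs)
  refine ⟨N, hN, hbot, ?_, hns⟩
  have hnres : ∀ y ∈ N, y ≠ 1 → ¬ N ≤ P.comp y := fun y _ hy hle => hns (by
    haveI := h.nil y hy
    haveI : Group.IsNilpotent N :=
      Subgroup.isNilpotent_of_ker_le_center (Subgroup.inclusion hle)
        (by rw [(MonoidHom.ker_eq_bot_iff _).2 (Subgroup.inclusion_injective hle)]; exact bot_le)
    infer_instance)
  set Q := P.restrict N hnres with hQ
  have hQnil : ∀ y : N, y ≠ 1 → Group.IsNilpotent (Q.comp y) := fun y hy => by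
    haveI := h.nil (y : G) fun e => hy (Subtype.ext e)
    let f : Q.comp y →* P.comp (y : G) :=
      { toFun := fun z => ⟨((z : N) : G), z.2⟩, map_one' := rfl, map_mul' := fun _ _ => rfl }
    have hf : Function.Injective f := fun a b hab =>
      Subtype.ext (Subtype.ext (congrArg (fun z : P.comp (y : G) => (z : G)) hab))
    exact Subgroup.isNilpotent_of_ker_le_center f
      (by rw [(MonoidHom.ker_eq_bot_iff _).2 hf]; exact bot_le)
  have hQrad : ∀ M : Subgroup N, M.Normal → Group.IsSolvable M → M = ⊥ := by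
    intro M hM hs
    haveI := CfsgLib.Layer.solvableRadical_isSolvable (G := N)
    have hr : (Cfsg.solvableRadical N).map N.subtype = ⊥ := by
      refine h.rad _ ConjAct.normal_of_characteristic_of_normal ?_
      exact Group.isSolvable_of_surjective (f := N.subtype.subgroupMap (Cfsg.solvableRadical N))
        (N.subtype.subgroupMap_surjective _)
    rw [Subgroup.map_eq_bot_iff_of_injective _ N.subtype_injective] at hr
    exact le_bot_iff.1 (hr ▸ CfsgLib.Layer.le_solvableRadical hM hs)
  haveI : Nontrivial N := (Subgroup.nontrivial_iff_ne_bot _).2 hbot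
  refine ⟨fun M hM => ?_⟩
  by_contra! hM'
  obtain ⟨hMb, hMt⟩ := hM'
  -- a minimal normal subgroup of `N`
  have hex' : ∃ n, ∃ M : Subgroup N, M.Normal ∧ M ≠ ⊥ ∧ M ≠ ⊤ ∧ Nat.card M = n :=
    ⟨_, M, hM, hMb, hMt, rfl⟩
  obtain ⟨A, hA, hAb, hAt, hAc⟩ := Nat.find_spec hex'
  haveI := hA
  obtain ⟨g, hg⟩ : ∃ g : G, A.map (MulAut.conjNormal g : MulAut N).toMonoidHom ≠ A := by
    by_contra! hall
    have hAn : (A.map N.subtype).Normal := ⟨fun x hx g => by
      obtain ⟨a, ha, rfl⟩ := hx
      refine ⟨MulAut.conjNormal g a, ?_, ?_⟩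
      · rw [← hall g]
        exact ⟨a, ha, rfl⟩
      · exact MulAut.conjNormal_apply g a⟩
    have := hmin _ hAn
      (fun e => hAb ((Subgroup.map_eq_bot_iff_of_injective _ N.subtype_injective).1 e))
      (Subgroup.map_subtype_le A)
    refine hAt (eq_top_iff.2 fun a _ => ?_)
    obtain ⟨b, hb, hba⟩ := this.ge a.2
    exact Subtype.ext hba ▸ hb
  set B := A.map (MulAut.conjNormal g : MulAut N).toMonoidHom with hB
  haveI : B.Normal := hA.map _ (MulAut.conjNormal g : MulAut N).surjective
  have hBb : B ≠ ⊥ := fun e => hAb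
    ((Subgroup.map_eq_bot_iff_of_injective _ (MulAut.conjNormal g : MulAut N).injective).1 e)
  have hAB := inf_ne_bot Q hQrad hQnil hAb hBb
  have hlt : A ⊓ B < A := lt_of_le_of_ne inf_le_left fun e => hg (by
    refine (Subgroup.eq_of_le_of_card_ge (inf_eq_left.1 e) ?_).symm
    exact (Subgroup.card_map_of_injective (f := (MulAut.conjNormal g : MulAut N).toMonoidHom)
      (MulAut.conjNormal g : MulAut N).injective).le)
  have h1 := Nat.find_min' hex'
    ⟨A ⊓ B, inferInstance, hAB, fun e => hAt (top_le_iff.1 (e.ge.trans inf_le_left)), rfl⟩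
  rw [← hAc] at h1
  exact hlt.ne (Subgroup.eq_of_le_of_card_ge hlt.le h1)

end Hyp

end CfsgLib.Partition
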