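import Mathlib
import Cfsg.Prelude.Def_Solvable
import Cfsg.Agent.Lib.Partition.Socle
import Cfsg.Agent.Lib.Invol.CAClass
import Cfsg.Agent.Lib.SuzUniq.Zassenhaus
import Cfsg.Agent.Lib.OneComposite.Main
import Cfsg.Agent.S0338

/-!
# The strongly embedded configurations

A Sylow `2`-subgroup inside one component, or elementary abelian and equal to the centralizer of
each of its involutions: a Zassenhaus group.
-/

set_option autoImplicit false
set_option linter.unusedSectionVars false
set_option linter.style.haveILetI false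

namespace CfsgLib.Partition

open CfsgLib.Invol.CASimple

universe u

variable {G : Type u} [Group G] [Finite G] {P : Part G}

/-- The linear and Suzuki conclusions. -/
def LinearOrSuzuki (G : Type u) [Group G] : Prop :=
  (∃ (F : Type) (_ : Field F) (_ : Fintype F), 4 ≤ Fintype.card F ∧
      Nonempty (G ≃* Matrix.ProjectiveSpecialLinearGroup (Fin 2) F)) ∨
    Cfsg.Lie.IsoSuzuki G

theorem Hyp.not_solvable (h : Hyp P) [Nontrivial G] : ¬ Group.IsSolvable G := fun hs => by
  haveI := hs
  exact bot_ne_top (h.rad ⊤ inferInstance inferInstance).symm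

theorem four_le_of_not_solvable {F : Type} [Field F] [Fintype F] (hns : ¬ Group.IsSolvable G)
    (e : G ≃* Matrix.ProjectiveSpecialLinearGroup (Fin 2) F) : 4 ≤ Fintype.card F := by
  classical
  by_contra hlt
  have h60 := AEightSub.sixty_le hns
  rw [Nat.card_congr e.toEquiv] at h60
  have hc := SL2.card_PSL (F := F)
  rw [Nat.card_eq_fintype_card (α := F)] at hc
  have h2 := Fintype.one_lt_card (α := F)
  rcases (show Fintype.card F = 2 ∨ Fintype.card F = 3 by omega) with hq | hq <;>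
    rw [hq] at hc <;> rw [Nat.card_eq_fintype_card] at h60 <;> norm_num at hc <;> omega

theorem Hyp.classify_setup (h : Hyp P) [Nontrivial G] {A : Subgroup G} {t : G} (hS : Setup A t)
    (he : 2 ≤ (invA A).ncard) : LinearOrSuzuki G := by
  classical
  have hZ := hS.isZassenhaus he
  haveI := Fintype.ofFinite (G ⧸ nA A)
  have hodd : Odd (Fintype.card (G ⧸ nA A)) := by
    rw [← Nat.card_eq_fintype_card, ← Subgroup.index_eq_card, ← Nat.not_even_iff_odd,
      even_iff_two_dvd]
    exact fun hd => hS.sylow (hd.trans (Subgroup.index_dvd_of_le Subgroup.le_normalizer))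
  haveI : IsSimpleGroup G := Cfsg.Agent.S0338.result hZ hodd
  rcases SuzUniq.zassenhaus_simple hZ with ⟨F, i1, i2, ⟨e⟩⟩ | hsz
  · exact Or.inl ⟨F, i1, i2, four_le_of_not_solvable h.not_solvable e, ⟨e⟩⟩
  · exact Or.inr hsz

/-- An involution with a normal subgroup of odd index around it. -/
theorem exists_central_involution {S : Subgroup G} (hS : IsPGroup 2 S) (hne : S ≠ ⊥) :
    ∃ z ∈ S, z * z = 1 ∧ z ≠ 1 ∧ ∀ x ∈ S, Commute x z := by
  haveI : Fact (Nat.Prime 2) := ⟨Nat.prime_two⟩
  haveI : Nontrivial S := (Subgroup.nontrivial_iff_ne_bot _).2 hne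
  haveI := hS.center_nontrivial
  obtain ⟨z, hz⟩ := exists_prime_orderOf_dvd_card' (G := Subgroup.center S) 2
    (((hS.to_subgroup _).card_eq_or_dvd).resolve_left (Finite.one_lt_card).ne')
  obtain ⟨hz2, hz1⟩ := involution_iff.1 hz
  exact ⟨((z : S) : G), (z : S).2,
    congrArg (fun w : Subgroup.center S => ((w : S) : G)) hz2,
    fun e => hz1 (Subtype.ext (Subtype.ext e)),
    fun x hx => congrArg Subtype.val (Subgroup.mem_center_iff.1 z.2 ⟨x, hx⟩)⟩

theorem Hyp.sylow_ne_bot (h : Hyp P) [Nontrivial G] (S : Sylow 2 G) : (S : Subgroup G) ≠ ⊥ := by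
  haveI : Fact (Nat.Prime 2) := ⟨Nat.prime_two⟩
  exact S.ne_bot_of_dvd_card h.even_card

/-- An element of a component fixed by all inner automorphisms of that component is moved to such
elements by the normalizer. -/
theorem commute_conj_of_central {K : Subgroup G} {z n : G} (hn : n ∈ Subgroup.normalizer (K : Set G))
    (hz : ∀ k ∈ K, Commute k z) : ∀ k ∈ K, Commute k (n * z * n⁻¹) := fun k hk => by
  have h := (hz (n⁻¹ * k * n) ((Subgroup.mem_normalizer_iff''.1 hn k).1 hk)).map (MulAut.conj n)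
  simpa [mul_assoc] using h

/-- A Sylow `2`-subgroup inside one component. -/
theorem Hyp.sylow_in_comp (h : Hyp P) [Nontrivial G] (S : Sylow 2 G) {g : G} (hg : g ≠ 1)
    (hSK : (S : Subgroup G) ≤ P.comp g) : LinearOrSuzuki G := by
  classical
  haveI : Fact (Nat.Prime 2) := ⟨Nat.prime_two⟩
  obtain ⟨z, hzS, hz2, hz1, hzc⟩ := exists_central_involution S.2 (h.sylow_ne_bot S)
  set K := P.comp g with hKdef
  have hKodd : ¬ 2 ∣ K.index := fun hd => S.not_dvd_index (hd.trans (Subgroup.index_dvd_of_le hSK))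
  -- involutions of the normalizer lie in the component and centralize nothing outside
  have hinvK : ∀ x ∈ Subgroup.normalizer (K : Set G), x * x = 1 → x ∈ K := fun x hx hx2 =>
    mem_of_sq_one hKodd hx hx2
  have hcK : ∀ x ∈ K, x * x = 1 → x ≠ 1 → ∀ y, Commute y x → y ∈ K := by
    intro x hx hx2 hx1 y hy
    by_contra hyK
    have hy1 : y ≠ 1 := fun e => hyK (e ▸ one_mem _)
    have hne : y ∉ P.comp x := by rwa [P.eq g x hg hx1 hx]
    have ho := (P.orderOf_of_commute hx1 hy1 hy.symm hne).2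
    rw [involution_iff.2 ⟨hx2, hx1⟩] at ho
    exact hyK (hinvK y (P.mem_normalizer_of_commute hg hx hx1 hy) (involution_iff.1 ho).1)
  have hzK : z ∈ K := hSK hzS
  -- `z` is central in the component
  have hzZ : ∀ k ∈ K, Commute k z := by
    intro k hk
    haveI := h.nil g hg
    obtain ⟨a, b, hb, hab⟩ := Nat.exists_eq_two_pow_mul_odd (orderOf_pos k).ne'
    have h1 : Commute (k ^ 2 ^ a) z := by
      have hcop : (orderOf (⟨k ^ 2 ^ a, pow_mem hk _⟩ : K)).Coprime (orderOf (⟨z, hzK⟩ : K)) := by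
        rw [Subgroup.orderOf_mk, Subgroup.orderOf_mk, involution_iff.2 ⟨hz2, hz1⟩,
          Nat.coprime_two_right]
        refine hb.of_dvd_nat (orderOf_dvd_of_pow_eq_one ?_)
        rw [← pow_mul, ← hab, pow_orderOf_eq_one]
      exact (CfsgLib.Char.PiPart.commute_of_coprime hcop).map K.subtype
    have h2 : Commute (k ^ b) z := by
      have hp : IsPGroup 2 (Subgroup.zpowers (⟨k ^ b, pow_mem hk _⟩ : K)) := by
        obtain ⟨i, -, hi⟩ := (Nat.dvd_prime_pow Nat.prime_two).1 (orderOf_dvd_of_pow_eq_one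
          (show (k ^ b) ^ 2 ^ a = 1 by rw [← pow_mul, mul_comm, ← hab, pow_orderOf_eq_one]))
        exact IsPGroup.of_card (n := i) (by rw [Nat.card_zpowers, Subgroup.orderOf_mk, hi])
      let T : Sylow 2 K := S.subtype hSK
      haveI : (T : Subgroup K).Normal := CfsgLib.Splitting.sylow_normal_of_isNilpotent (h.nil g hg) T
      have hmem : (⟨k ^ b, pow_mem hk _⟩ : K) ∈ (T : Subgroup K) :=
        (le_sup_left.trans (T.3 (hp.to_sup_of_normal_right T.2) le_sup_right).le)
          (Subgroup.mem_zpowers _)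
      exact hzc _ hmem
    have hcop : (2 ^ a).Coprime b := Nat.Coprime.pow_left a (Nat.coprime_two_left.2 hb)
    have e : k = (k ^ 2 ^ a) ^ Nat.gcdA (2 ^ a) b * (k ^ b) ^ Nat.gcdB (2 ^ a) b := by
      rw [← zpow_natCast k (2 ^ a), ← zpow_natCast k b, ← _root_.zpow_mul, ← _root_.zpow_mul,
        ← zpow_add, ← Nat.gcd_eq_gcd_ab, hcop.gcd_eq_one, Nat.cast_one, zpow_one]
    rw [e]
    exact (h1.zpow_left _).mul_left (h2.zpow_left _)
  -- an involution outside
  obtain ⟨u, hu2, hu1, huN⟩ : ∃ u : G, u * u = 1 ∧ u ≠ 1 ∧ u ∉ Subgroup.normalizer (K : Set G) := by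
    by_contra! hc
    have hle : Subgroup.normalClosure {z} ≤ K := by
      refine (Subgroup.closure_le _).2 fun x hx => ?_
      obtain ⟨y, hy, hxy⟩ := Group.mem_conjugatesOfSet_iff.1 hx
      rw [Set.mem_singleton_iff] at hy
      subst hy
      obtain ⟨c, hc'⟩ := isConj_iff.1 hxy
      have hx2 : x * x = 1 := by
        rw [← hc', show c * y * c⁻¹ * (c * y * c⁻¹) = c * (y * y) * c⁻¹ by group, hz2, mul_one,
          mul_inv_cancel]
      exact hinvK x (hc x hx2 fun e => hz1 (conj_eq_one_iff.1 (hc'.trans e))) hx2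
    have hnb : Subgroup.normalClosure ({z} : Set G) = ⊥ := by
      refine h.rad _ inferInstance ?_
      haveI := h.nil g hg
      haveI : Group.IsNilpotent (Subgroup.normalClosure ({z} : Set G)) :=
        Subgroup.isNilpotent_of_ker_le_center (Subgroup.inclusion hle)
          (by rw [(MonoidHom.ker_eq_bot_iff _).2 (Subgroup.inclusion_injective hle)]; exact bot_le)
      infer_instance
    exact hz1 (Subgroup.mem_bot.1 (hnb ▸ Subgroup.subset_normalClosure rfl))
  -- one class, so all involutions of the component are central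
  have hfar : ∀ x ∈ K, x * x = 1 → x ≠ 1 → IsConj x u := fun x hx hx2 hx1 =>
    (conj_or_link hx2 hu2).resolve_right fun ⟨w, hw1, hw2, hwx, hwu⟩ =>
      huN (Subgroup.le_normalizer (hcK w (hcK x hx hx2 hx1 w hwx) hw2 hw1 u hwu.symm))
  have hinvC : ∀ x ∈ K, x * x = 1 → x ≠ 1 → Subgroup.centralizer ({x} : Set G) = K := by
    intro x hx hx2 hx1
    refine le_antisymm (fun y hy => hcK x hx hx2 hx1 y (mem_cent.1 hy)) fun k hk => mem_cent.2 ?_
    obtain ⟨n, hn⟩ := isConj_iff.1 ((hfar z hzK hz2 hz1).trans (hfar x hx hx2 hx1).symm)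
    have hnN : n ∈ Subgroup.normalizer (K : Set G) :=
      P.mem_normalizer hg hzK hz1 (hn.symm ▸ hx)
    rw [← hn]
    exact commute_conj_of_central hnN hzZ k hk
  have hKn : ¬ K.Normal := fun hn => by
    haveI := h.nil g hg
    have hK : K = ⊥ := h.rad K hn inferInstance
    exact hz1 (Subgroup.mem_bot.1 (hK ▸ hzK))
  have hS : Setup K z := ⟨⟨hinvC, hz2, hz1, (hinvC z hzK hz2 hz1).symm, hKn, hKodd⟩,
    fun a ha ha1 y hy => P.mem_normalizer_of_commute hg ha ha1 (mem_cent.1 hy)⟩
  refine h.classify_setup hS ?_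
  by_contra hlt
  refine h.norm g hg (le_antisymm (fun n hn => ?_) Subgroup.le_normalizer)
  refine hcK z hzK hz2 hz1 n ?_
  have h1 : ({z, n * z * n⁻¹} : Set G) ⊆ invA K := by
    rintro y (rfl | rfl)
    · exact ⟨hzK, hz2, hz1⟩
    · exact hS.conj_t_mem hn
  have h2 := Set.ncard_le_ncard h1 (Set.toFinite _)
  have e : z = n * z * n⁻¹ := by
    by_contra hd
    rw [Set.ncard_pair hd] at h2
    exact hlt h2
  exact mul_inv_eq_iff_eq_mul.1 e.symm

/-- An elementary abelian Sylow `2`-subgroup, all involution centralizers `2`-groups. -/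
theorem Hyp.sylow_elementary (h : Hyp P) [Nontrivial G] (S : Sylow 2 G)
    (hexp : ∀ x ∈ (S : Subgroup G), x * x = 1)
    (hcit : ∀ t : G, t * t = 1 → t ≠ 1 → IsPGroup 2 (Subgroup.centralizer ({t} : Set G)))
    (hS : ∀ g : G, g ≠ 1 → ¬ (S : Subgroup G) ≤ P.comp g) : LinearOrSuzuki G := by
  classical
  haveI : Fact (Nat.Prime 2) := ⟨Nat.prime_two⟩
  set A : Subgroup G := (S : Subgroup G) with hA
  have hab : ∀ a ∈ A, ∀ b ∈ A, Commute a b := fun a ha b hb => by
    have h2 := eq_inv_of_mul_eq_one_left (hexp _ (mul_mem ha hb))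
    rw [mul_inv_rev, inv_eq_of_mul_eq_one_right (hexp a ha),
      inv_eq_of_mul_eq_one_right (hexp b hb)] at h2
    exact h2
  have hinvC : ∀ x ∈ A, x * x = 1 → x ≠ 1 → Subgroup.centralizer ({x} : Set G) = A :=
    fun x hx hx2 hx1 => S.3 (hcit x hx2 hx1) fun a ha => mem_cent.2 (hab a ha x hx)
  obtain ⟨t, ht, ht2, ht1, -⟩ := exists_central_involution S.2 (h.sylow_ne_bot S)
  have hAn : ¬ A.Normal := fun hn => by
    haveI := S.2.isNilpotent
    exact h.sylow_ne_bot S (h.rad A hn inferInstance)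
  refine h.classify_setup (A := A) (t := t)
    ⟨⟨hinvC, ht2, ht1, (hinvC t ht ht2 ht1).symm, hAn, S.not_dvd_index⟩, fun a ha ha1 => by
      rw [hinvC a ha (hexp a ha) ha1]; exact Subgroup.le_normalizer⟩ ?_
  obtain ⟨s, hs, hst⟩ := SetLike.not_le_iff_exists.1 (hS t ht1)
  have hs1 : s ≠ 1 := fun e => hst (e ▸ one_mem _)
  have h1 : ({t, s} : Set G) ⊆ invA A := by
    rintro y (rfl | rfl)
    · exact ⟨ht, ht2, ht1⟩
    · exact ⟨hs, hexp _ hs, hs1⟩
  have h2 := Set.ncard_le_ncard h1 (Set.toFinite _)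
  rwa [Set.ncard_pair (fun e => hst (e ▸ P.mem t) : t ≠ s)] at h2

end CfsgLib.Partition
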