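import Mathlib
import Cfsg.Prelude.Def_Solvable
import Cfsg.Agent.Lib.Partition.Socle
import Cfsg.Agent.Lib.Partition.Strong
import Cfsg.Agent.Lib.BSW.Recognition
import Cfsg.Agent.Lib.Transfer.Thompson

/-!
# The dihedral configuration

A Sylow `2`-subgroup normalizes but does not lie in a component: the simple normal subgroup is
`PSL₂` over a field of odd order, of index at most two.
-/

set_option autoImplicit false
set_option linter.unusedSectionVars false
set_option linter.style.haveILetI false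

namespace CfsgLib.Partition

open CfsgLib.Invol.CASimple (mem_of_sq_one involution_iff)

universe u

variable {G : Type u} [Group G] [Finite G] {P : Part G}

/-- A component of the centralizer type: the abelian group `K` of index two in the centralizer of
its unique involution `z`, inverted by the involution `u`. -/
structure InvPair (N : Subgroup G) (K : Subgroup G) (z u : G) : Prop where
  z2 : orderOf z = 2
  u2 : orderOf u = 2
  zK : z ∈ K
  uK : u ∉ K
  zN : z ∈ N
  uN : u ∈ N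
  comm : ∀ a ∈ K, ∀ b ∈ K, Commute a b
  inv : ∀ x ∈ K, u * x * u⁻¹ = x⁻¹
  uniq : ∀ x ∈ K, x * x = 1 → x = 1 ∨ x = z
  cent : ∀ g, Commute g z ↔ g ∈ K ∨ g * u ∈ K
  conjN : ∀ x ∈ N, ∀ y ∈ N, orderOf x = 2 → orderOf y = 2 → ∃ n ∈ N, n * x * n⁻¹ = y

theorem mem_of_comp_eq (P : Part G) {a : G} {L : Subgroup G} (e : P.comp a = L) : a ∈ L :=
  e ▸ P.mem a

theorem orderOf_cj (g x : G) : orderOf (g * x * g⁻¹) = orderOf x := (MulAut.conj g).orderOf_eq x

/-- The trace of a Sylow subgroup on a normal subgroup is a Sylow subgroup of it. -/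
theorem exists_sylow_trace (D : Sylow 2 G) (K : Subgroup G) [hK : K.Normal] :
    ∃ SK : Sylow 2 K, (SK : Subgroup K) = (D : Subgroup G).subgroupOf K := by
  haveI : Fact (Nat.Prime 2) := ⟨Nat.prime_two⟩
  have hp : IsPGroup 2 ((D : Subgroup G).subgroupOf K) := D.isPGroup'.comap_subtype
  obtain ⟨SK, hSK⟩ := hp.exists_le_sylow
  refine ⟨SK, (Subgroup.eq_of_le_of_card_ge hSK ?_).symm⟩
  obtain ⟨Q, hQ⟩ := (SK.isPGroup'.map K.subtype).exists_le_sylow
  obtain ⟨c, hc⟩ := MulAction.exists_smul_eq G Q D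
  refine Nat.card_le_card_of_injective
    (fun s : (SK : Subgroup K) => (⟨⟨c * ((s : K) : G) * c⁻¹, hK.conj_mem _ (s : K).2 c⟩, ?_⟩ :
      (D : Subgroup G).subgroupOf K)) fun a b e => ?_
  · rw [Subgroup.mem_subgroupOf, ← hc, Sylow.coe_subgroup_smul,
      Subgroup.mem_pointwise_smul_iff_inv_smul_mem]
    simpa [mul_assoc] using hQ ⟨s, s.2, rfl⟩
  · have h : c * ((a : K) : G) * c⁻¹ = c * ((b : K) : G) * c⁻¹ :=
      congrArg (fun z : (D : Subgroup G).subgroupOf K => ((z : K) : G)) e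
    exact Subtype.ext (Subtype.ext (mul_left_cancel (mul_right_cancel h)))

/-- An involution outside a component normalizing it inverts it. -/
theorem invert_of_outside (P : Part G) {g u : G} (hg : g ≠ 1) (hu : u * u = 1) (hu1 : u ∉ P.comp g)
    (hn : u ∈ Subgroup.normalizer (P.comp g : Set G)) {x : G} (hx : x ∈ P.comp g) :
    u * x * u⁻¹ = x⁻¹ := by
  have hui : u⁻¹ = u := inv_eq_of_mul_eq_one_right hu
  have h1 : x * u * (x * u) ∈ P.comp g := by
    rw [show x * u * (x * u) = x * (u * x * u⁻¹) * (u * u) by group, hu, mul_one]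
    exact mul_mem hx ((Subgroup.mem_normalizer_iff.1 hn x).1 hx)
  have h2 : x * u * (x * u) = 1 := by
    by_contra hne
    have hxu : x * u ≠ 1 := fun e => hne (by rw [e, one_mul])
    have e1 : P.comp g = P.comp (x * u) := (P.eq g _ hg hne h1).symm.trans
      (P.eq (x * u) _ hxu hne (mul_mem (P.mem _) (P.mem _)))
    exact hu1 ((Subgroup.mul_mem_cancel_left _ hx).1 (e1.symm ▸ P.mem (x * u)))
  rw [hui]
  exact eq_inv_of_mul_eq_one_right (by rw [← mul_assoc, ← mul_assoc] at *; exact h2)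

/-- The normalizer of the component. -/
theorem mem_or_mul_mem (P : Part G) {g u z y : G} (hg : g ≠ 1) (hu : u * u = 1)
    (hu1 : u ∉ P.comp g) (hn : u ∈ Subgroup.normalizer (P.comp g : Set G))
    (hz : z ∈ P.comp g) (hz2 : orderOf z = 2) (hy : y ∈ P.comp g) (hy1 : y ≠ 1)
    (hy2 : orderOf y ≠ 2) {x : G} (hx : x ∈ Subgroup.normalizer (P.comp g : Set G)) :
    x ∈ P.comp g ∨ x * u ∈ P.comp g := by
  set K := P.comp g with hK
  haveI : Fact (Nat.Prime 2) := ⟨Nat.prime_two⟩
  have hinv : ∀ {a : G}, a ∈ K → u * a * u⁻¹ = a⁻¹ := fun ha => invert_of_outside P hg hu hu1 hn ha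
  have hui : u⁻¹ = u := inv_eq_of_mul_eq_one_right hu
  have hz1 : z ≠ 1 := fun e => by rw [e, orderOf_one] at hz2; norm_num at hz2
  have hcK : ∀ {a : G}, a ∈ K → ∀ {b : G}, b ∈ K → Commute a b := fun {a} ha {b} hb => by
    have e := (hinv (mul_mem ha hb)).symm
    rw [show u * (a * b) * u⁻¹ = (u * a * u⁻¹) * (u * b * u⁻¹) by group, hinv ha, hinv hb,
      ← mul_inv_rev, inv_inj] at e
    exact e
  -- whatever centralizes `y` and `z` lies in the component
  have hcent : ∀ {c : G}, Commute c z → Commute c y → c ∈ K := by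
    intro c hcz hcy
    by_contra hc
    have hc1 : c ≠ 1 := fun e => hc (e ▸ one_mem _)
    have h1 := (P.orderOf_of_commute hz1 hc1 hcz.symm (by rwa [P.eq g z hg hz1 hz])).2
    have h2 := (P.orderOf_of_commute hy1 hc1 hcy.symm (by rwa [P.eq g y hg hy1 hy])).2
    exact hy2 (by rw [← h2, h1, hz2])
  have hu_central : ∀ {a : G}, a ∈ Subgroup.normalizer (K : Set G) → a * u * a⁻¹ * u⁻¹ ∈ K := by
    intro a ha
    have key : ∀ {b : G}, b ∈ K → Commute (a * u * a⁻¹ * u⁻¹) b := fun {b} hb => by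
      refine mul_inv_eq_iff_eq_mul.1 ?_
      have hb' : a⁻¹ * b⁻¹ * a ∈ K := (Subgroup.mem_normalizer_iff''.1 ha _).1 (inv_mem hb)
      calc a * u * a⁻¹ * u⁻¹ * b * (a * u * a⁻¹ * u⁻¹)⁻¹
          = a * u * (a⁻¹ * (u⁻¹ * b * u⁻¹⁻¹) * a) * u⁻¹ * a⁻¹ := by group
        _ = a * u * (a⁻¹ * b⁻¹ * a) * u⁻¹ * a⁻¹ := by
          rw [inv_inv, show u⁻¹ * b * u = b⁻¹ by rw [← hinv hb, hui]]
        _ = a * (u * (a⁻¹ * b⁻¹ * a) * u⁻¹) * a⁻¹ := by group
        _ = b := by rw [hinv hb']; group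
    exact hcent (key hz) (key hy)
  -- an element whose image has order two lies in the coset of `u`
  have hsq : ∀ {a : G}, a ∈ Subgroup.normalizer (K : Set G) → a ∉ K → a * a ∈ K → a * u ∈ K := by
    intro a ha haK haa
    have h1 : a * a = 1 := by
      by_contra hne
      have ha1 : a ≠ 1 := fun e => haK (e ▸ one_mem _)
      exact haK (mem_of_comp_eq P ((P.eq a _ ha1 hne (mul_mem (P.mem _) (P.mem _))).symm.trans
        (P.eq g _ hg hne haa)))
    have key : ∀ {b : G}, b ∈ K → Commute (a * u) b := fun {b} hb => by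
      refine mul_inv_eq_iff_eq_mul.1 ?_
      rw [show a * u * b * (a * u)⁻¹ = a * (u * b * u⁻¹) * a⁻¹ by group, hinv hb,
        invert_of_outside P hg h1 haK ha (inv_mem hb), inv_inv]
    exact hcent (key hz) (key hy)
  set M := Subgroup.normalizer (K : Set G) with hM
  set KM := K.subgroupOf M with hKM
  haveI : KM.Normal := Subgroup.normal_in_normalizer
  by_cases hxK : x ∈ K
  · exact Or.inl hxK
  refine Or.inr ?_
  set ξ : M ⧸ KM := QuotientGroup.mk ⟨x, hx⟩ with hξ
  have hξ1 : ξ ≠ 1 := fun e => hxK ((QuotientGroup.eq_one_iff (N := KM) _).1 e)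
  by_cases hxx : x * x ∈ K
  · exact hsq hx hxK hxx
  exfalso
  have hmk : ∀ (a : M), ((a : M) : M ⧸ KM) = 1 ↔ (a : G) ∈ K := fun a => QuotientGroup.eq_one_iff a
  -- an element of order a prime or four in the quotient
  obtain ⟨n, hn1, hno⟩ : ∃ n, (n.Prime ∧ n ≠ 2 ∨ n = 4) ∧ n ∣ orderOf ξ := by
    have hne2 : orderOf ξ ∣ 2 → False := fun hd => hxx (by
      have h := orderOf_dvd_iff_pow_eq_one.1 hd
      rw [hξ, ← QuotientGroup.mk_pow, hmk] at h
      simpa [pow_two] using h)
    by_cases h4 : 4 ∣ orderOf ξ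
    · exact ⟨4, Or.inr rfl, h4⟩
    by_contra! hno
    refine hne2 ?_
    refine (Nat.dvd_iff_prime_pow_dvd_dvd 2 (orderOf ξ)).2 fun p k hp hpk => ?_
    rcases k with - | k
    · simp
    have hp2 : p = 2 := by_contra fun hne =>
      hno p (Or.inl ⟨hp, hne⟩) ((dvd_pow_self p k.succ_ne_zero).trans hpk)
    subst hp2
    rcases k with - | k
    · simp
    · exact absurd ((pow_dvd_pow 2 (show 2 ≤ k + 1 + 1 by omega)).trans hpk) h4
  obtain ⟨m, hm⟩ := hno
  have hm0 : m ≠ 0 := fun e => by rw [e, mul_zero] at hm; exact (orderOf_pos ξ).ne' hm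
  set w : M := (⟨x, hx⟩ : M) ^ m with hw
  have hwo : orderOf (w : M ⧸ KM) = n := by
    rw [hw, QuotientGroup.mk_pow, ← hξ, orderOf_pow_of_dvd hm0 (hm ▸ dvd_mul_left m n), hm,
      Nat.mul_div_cancel _ (Nat.pos_of_ne_zero hm0)]
  have hwK : (w : G) ∉ K := fun h => by
    rw [(hmk w).2 h, orderOf_one] at hwo
    rcases hn1 with ⟨hp, -⟩ | e
    · exact hp.ne_one hwo.symm
    · omega
  have hwo' : orderOf (w : G) = n := by
    refine Nat.dvd_antisymm (orderOf_dvd_of_pow_eq_one ?_) (hwo ▸ ?_)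
    · have hmem : (w : G) ^ n ∈ K := by
        rw [← Subgroup.coe_pow, ← hmk, QuotientGroup.mk_pow, ← hwo, pow_orderOf_eq_one]
      by_contra hne
      exact hwK (mem_of_comp_eq P ((P.comp_pow hne).symm.trans (P.eq g _ hg hne hmem)))
    · rw [Subgroup.orderOf_coe]
      exact orderOf_map_dvd (QuotientGroup.mk' KM) w
  rcases hn1 with ⟨hp, hp2⟩ | rfl
  · -- an element of order twice an odd prime
    haveI := Fact.mk hp
    let uM : M := ⟨u, hn⟩
    have hcomm : Commute (w : M ⧸ KM) (uM : M ⧸ KM) := by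
      have h : (((w * uM * w⁻¹ * uM⁻¹ : M)) : M ⧸ KM) = 1 := (hmk _).2 (hu_central w.2)
      rw [QuotientGroup.mk_mul, QuotientGroup.mk_mul, QuotientGroup.mk_mul, QuotientGroup.mk_inv,
        QuotientGroup.mk_inv, mul_inv_eq_one, mul_inv_eq_iff_eq_mul] at h
      exact h
    have huo : orderOf (uM : M ⧸ KM) = 2 := orderOf_eq_prime
      (by rw [← QuotientGroup.mk_pow, hmk, Subgroup.coe_pow, pow_two]; exact hu ▸ one_mem _)
      (fun e => hu1 ((hmk uM).1 e))
    have hwu : orderOf ((w * uM : M) : M ⧸ KM) = n * 2 := by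
      rw [QuotientGroup.mk_mul, hcomm.orderOf_mul_eq_mul_orderOf_of_coprime (by
        rw [hwo, huo]; exact (Nat.coprime_primes hp Nat.prime_two).2 hp2), hwo, huo]
    set v : M := w * uM with hv
    have hvK : (v : G) ∉ K := fun h => by
      rw [(hmk v).2 h, orderOf_one] at hwu; omega
    have hv1 : (v : G) ≠ 1 := fun e => hvK (e ▸ one_mem _)
    have hvn : (v : G) ^ n ∉ K := fun h => by
      have := orderOf_dvd_of_pow_eq_one (x := (v : M ⧸ KM))
        (by rw [← QuotientGroup.mk_pow, hmk, Subgroup.coe_pow]; exact h)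
      rw [hwu] at this
      have := Nat.le_of_dvd hp.pos this
      have := hp.pos; omega
    have hvnn : (v : G) ^ n * (v : G) ^ n ∈ K := by
      rw [← pow_add, ← two_mul, mul_comm, ← Subgroup.coe_pow, ← hmk, QuotientGroup.mk_pow, ← hwu,
        pow_orderOf_eq_one]
    have hsqv : (v : G) ^ n * (v : G) ^ n = 1 := by
      by_contra hne
      refine hvK ?_
      have e : ((v : G) ^ n * (v : G) ^ n) = (v : G) ^ (n + n) := by rw [pow_add]
      exact mem_of_comp_eq P ((P.comp_pow (by rwa [e] at hne)).symm.trans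
        (P.eq g _ hg (by rwa [e] at hne) (e ▸ hvnn)))
    have hiz : Commute z ((v : G) ^ n) := by
      have h := invert_of_outside P hg hsqv hvn (pow_mem v.2 n) hz
      rw [inv_eq_of_mul_eq_one_right (by rw [← pow_two, ← hz2, pow_orderOf_eq_one] : z * z = 1),
        mul_inv_eq_iff_eq_mul] at h
      exact h.symm
    have hvn1 : (v : G) ^ n ≠ 1 := fun e => hvn (e ▸ one_mem _)
    have hzL : z ∈ Subgroup.normalizer (P.comp (v : G) : Set G) :=
      P.mem_normalizer_of_commute hv1 (P.pow_mem_comp _ n) hvn1 hiz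
    set a : G := (v : G) ^ 2 with ha
    have hc : z * a * z⁻¹ * a⁻¹ = 1 := by
      by_contra hne
      have h1 : z * a * z⁻¹ * a⁻¹ ∈ P.comp (v : G) :=
        mul_mem ((Subgroup.mem_normalizer_iff.1 hzL a).1 (P.pow_mem_comp _ 2))
          (inv_mem (P.pow_mem_comp _ 2))
      have h2 : z * a * z⁻¹ * a⁻¹ ∈ K := by
        rw [show z * a * z⁻¹ * a⁻¹ = z * (a * z⁻¹ * a⁻¹) by group]
        exact mul_mem hz ((Subgroup.mem_normalizer_iff.1 (pow_mem v.2 2) _).1 (inv_mem hz))
      exact hvK (mem_of_comp_eq P ((P.eq (v : G) _ hv1 hne h1).symm.trans (P.eq g _ hg hne h2)))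
    rw [mul_inv_eq_one, mul_inv_eq_iff_eq_mul] at hc
    have hao : orderOf ((v ^ 2 : M) : M ⧸ KM) = n := by
      rw [QuotientGroup.mk_pow, orderOf_pow_of_dvd two_ne_zero (hwu ▸ dvd_mul_left 2 n), hwu,
        Nat.mul_div_cancel _ two_pos]
    have haK : a ∉ K := fun h => by
      rw [(hmk (v ^ 2)).2 (by rw [Subgroup.coe_pow]; exact h), orderOf_one] at hao
      exact hp.ne_one hao.symm
    have ha1 : a ≠ 1 := fun e => haK (e ▸ one_mem _)
    have h3 := (P.orderOf_of_commute hz1 ha1 hc (by rwa [P.eq g z hg hz1 hz])).2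
    rw [hz2] at h3
    refine hp2 (hao ▸ ?_)
    refine orderOf_eq_prime ?_ fun e => haK (by rw [ha, ← Subgroup.coe_pow, ← hmk]; exact e)
    rw [← QuotientGroup.mk_pow, hmk, Subgroup.coe_pow, Subgroup.coe_pow, ← ha, ← h3,
      pow_orderOf_eq_one]
    exact one_mem _
  · -- an element of order four
    have hw2K : (w : G) ^ 2 ∉ K := fun h => by
      have := orderOf_dvd_of_pow_eq_one (x := (w : M ⧸ KM))
        (by rw [← QuotientGroup.mk_pow, hmk, Subgroup.coe_pow]; exact h)
      rw [hwo] at this; norm_num at this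
    have hw2 : (w : G) ^ 2 * (w : G) ^ 2 = 1 := by
      rw [← pow_add, show 2 + 2 = orderOf (w : G) from hwo'.symm, pow_orderOf_eq_one]
    have hzi : z * z = 1 := by rw [← pow_two, ← hz2, pow_orderOf_eq_one]
    set z' := (w : G) * z * (w : G)⁻¹ with hz'
    have hz'K : z' ∈ K := (Subgroup.mem_normalizer_iff.1 w.2 z).1 hz
    -- `w` fixes an involution of the component
    have hback : (w : G) * z' * (w : G)⁻¹ = z := by
      have h := invert_of_outside P hg hw2 hw2K (pow_mem w.2 2) hz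
      rw [inv_eq_of_mul_eq_one_right hzi] at h
      rw [hz']
      rw [pow_two] at h
      refine Eq.trans ?_ h
      group
    obtain ⟨c, hcK', hc1, hcw, hc2⟩ : ∃ c ∈ K, c ≠ 1 ∧ Commute (w : G) c ∧ c * c = 1 := by
      by_cases hzz : z' = z
      · exact ⟨z, hz, hz1, mul_inv_eq_iff_eq_mul.1 hzz, hzi⟩
      refine ⟨z * z', mul_mem hz hz'K, fun e => hzz ?_, mul_inv_eq_iff_eq_mul.1 ?_, ?_⟩
      · rw [← inv_eq_of_mul_eq_one_right e, inv_eq_of_mul_eq_one_right hzi]
      · rw [show (w : G) * (z * z') * (w : G)⁻¹ =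
          (w : G) * z * (w : G)⁻¹ * ((w : G) * z' * (w : G)⁻¹) by group, hback, ← hz',
          (hcK hz'K hz).eq]
      · have hz'2 : z' * z' = 1 := by
          rw [hz', show (w : G) * z * (w : G)⁻¹ * ((w : G) * z * (w : G)⁻¹) =
            (w : G) * (z * z) * (w : G)⁻¹ by group, hzi, mul_one, mul_inv_cancel]
        rw [show z * z' * (z * z') = z * (z' * z) * z' by group, (hcK hz'K hz).eq,
          show z * (z * z') * z' = (z * z) * (z' * z') by group, hzi, hz'2, one_mul]
    have hw1' : (w : G) ≠ 1 := fun e => hwK (e ▸ one_mem _)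
    have := (P.orderOf_of_commute hc1 hw1' hcw.symm (by rwa [P.eq g c hg hc1 hcK'])).2
    rw [hwo', involution_iff.2 ⟨hc2, hc1⟩] at this
    norm_num at this

/-- **The dihedral configuration.** -/
theorem Hyp.dihedral (h : Hyp P) [Nontrivial G] (S : Sylow 2 G) {z y : G} (hz : z * z = 1)
    (hz1 : z ≠ 1) (hzS : z ∈ (S : Subgroup G)) (hSz : ∀ x ∈ (S : Subgroup G), Commute x z)
    (hy : y ∈ P.comp z) (hy1 : y ≠ 1) (hy2 : orderOf y ≠ 2)
    (hSK : ¬ (S : Subgroup G) ≤ P.comp z) :
    ∃ N : Subgroup G, N.Normal ∧ N ≠ ⊥ ∧ N.index ≤ 2 ∧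
      (∃ (F : Type) (_ : Field F) (_ : Fintype F), 5 ≤ Fintype.card F ∧ Odd (Fintype.card F) ∧
        Nonempty (N ≃* Matrix.ProjectiveSpecialLinearGroup (Fin 2) F)) ∧
      ∃ u, InvPair N (P.comp z) z u := by
  classical
  haveI : Fact (Nat.Prime 2) := ⟨Nat.prime_two⟩
  set K := P.comp z with hK
  set M := Subgroup.normalizer (K : Set G) with hM
  have hzo : orderOf z = 2 := involution_iff.2 ⟨hz, hz1⟩
  have hSM : (S : Subgroup G) ≤ M := fun x hx => P.mem_normalizer_self hz1 (hSz x hx)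
  have hout : ∀ x ∈ (S : Subgroup G), x ∉ K → x * x = 1 ∧ x ≠ 1 := fun x hx hxK => by
    have hx1 : x ≠ 1 := fun e => hxK (e ▸ one_mem _)
    have := (P.orderOf_of_commute hz1 hx1 (hSz x hx).symm hxK).2
    exact involution_iff.1 (this.trans hzo)
  obtain ⟨u₀, hu₀S, hu₀K⟩ := SetLike.not_le_iff_exists.1 hSK
  have hMor : ∀ x ∈ M, x ∈ K ∨ x * u₀ ∈ K := fun x hx =>
    mem_or_mul_mem P hz1 (hout _ hu₀S hu₀K).1 hu₀K (hSM hu₀S) (P.mem z) hzo hy hy1 hy2 hx
  have hKc : ∀ a ∈ K, ∀ b ∈ K, Commute a b := fun a ha b hb => by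
    have hi := fun {c : G} (hc : c ∈ K) =>
      invert_of_outside P hz1 (hout _ hu₀S hu₀K).1 hu₀K (hSM hu₀S) hc
    have e := (hi (mul_mem ha hb)).symm
    rw [show u₀ * (a * b) * u₀⁻¹ = (u₀ * a * u₀⁻¹) * (u₀ * b * u₀⁻¹) by group, hi ha, hi hb,
      ← mul_inv_rev, inv_inj] at e
    exact e
  obtain ⟨N, hN, hNb, hNs, hNns⟩ := h.exists_simple
  haveI := hN
  haveI := hNs
  have hleN : ∀ L : Subgroup G, L.Normal → L ≠ ⊥ → N ≤ L := fun L hL hLb => by
    haveI := hL
    have hne := inf_ne_bot P h.rad h.nil hNb hLb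
    rcases ((inferInstance : (N ⊓ L).Normal).subgroupOf N).eq_bot_or_eq_top with e | e
    · exact absurd (Subgroup.subgroupOf_eq_bot.1 e |>.eq_bot) (by simpa using hne)
    · exact (Subgroup.subgroupOf_eq_top.1 e).trans inf_le_right
  -- the trace of the Sylow subgroup on the simple group
  obtain ⟨T, hT⟩ : ∃ T : Sylow 2 N, (T : Subgroup N).map N.subtype = (S : Subgroup G) ⊓ N := by
    obtain ⟨T, hT⟩ := exists_sylow_trace S N
    exact ⟨T, by rw [hT, Subgroup.subgroupOf_map_subtype]⟩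
  have hTmem : ∀ a : N, a ∈ (T : Subgroup N) ↔ (a : G) ∈ (S : Subgroup G) := fun a => by
    constructor
    · intro ha
      exact (hT.le ⟨a, ha, rfl⟩).1
    · intro ha
      obtain ⟨b, hb, hba⟩ := hT.ge ⟨ha, a.2⟩
      exact Subtype.ext hba ▸ hb
  -- some involution of `N ⊓ S` lies outside the component
  obtain ⟨u, huS, huN, huK⟩ : ∃ u, u ∈ (S : Subgroup G) ∧ u ∈ N ∧ u ∉ K := by
    by_contra! hno
    have hTK : ∀ a ∈ (T : Subgroup N), (a : G) ∈ K := fun a ha => hno a ((hTmem a).1 ha) a.2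
    haveI : Nontrivial (T : Subgroup N) := (Subgroup.nontrivial_iff_ne_bot _).2
      (T.ne_bot_of_dvd_card (by
        by_contra h2
        exact hNns (Cfsg.Agent.S0205.result (Nat.odd_iff.2 (Nat.two_dvd_ne_zero.1 h2)))))
    obtain ⟨t₀, ht₀⟩ := exists_ne (1 : (T : Subgroup N))
    have ht₀1 : ((t₀ : N) : G) ≠ 1 := fun e => ht₀ (Subtype.ext (Subtype.ext e))
    have hnc : Subgroup.normalizer ((T : Subgroup N) : Set N) ≤
        Subgroup.centralizer ((T : Subgroup N) : Set N) := by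
      intro a ha
      have hconj : ((a * t₀ * a⁻¹ : N) : G) ∈ K :=
        hTK _ ((Subgroup.mem_normalizer_iff.1 ha _).1 t₀.2)
      have haM : (a : G) ∈ M := P.mem_normalizer hz1 (hTK _ t₀.2) ht₀1 hconj
      rcases hMor a haM with h1 | h1
      · exact Subgroup.mem_centralizer_iff.2 fun b hb =>
          Subtype.ext (hKc _ (hTK b hb) _ h1).eq
      · exfalso
        have haK : (a : G) ∉ K := fun h2 =>
          hu₀K ((Subgroup.mul_mem_cancel_left K h2).1 h1)
        have ha2 : (a : G) * a = 1 := by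
          have h3 := invert_of_outside P hz1 (hout _ hu₀S hu₀K).1 hu₀K (hSM hu₀S) h1
          have hi : u₀⁻¹ = u₀ := inv_eq_of_mul_eq_one_right (hout _ hu₀S hu₀K).1
          rw [mul_inv_rev, hi, show u₀ * ((a : G) * u₀) * u₀ = u₀ * a * (u₀ * u₀) by group,
            (hout _ hu₀S hu₀K).1, mul_one] at h3
          exact eq_inv_iff_mul_eq_one.1 (mul_left_cancel h3)
        exact haK (hTK a (mem_of_sq_one T.not_dvd_index ha (Subtype.ext ha2)))
    have hcompl := MonoidHom.ker_transferSylow_isComplement' T hnc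
    rcases (MonoidHom.transferSylow T hnc).normal_ker.eq_bot_or_eq_top with e | e <;>
      rw [e] at hcompl
    · haveI := T.2.isNilpotent
      haveI : Group.IsSolvable (T : Subgroup N) := inferInstance
      rw [Subgroup.isComplement'_bot_left.1 hcompl] at this
      exact hNns (Group.isSolvable_of_surjective (f := (⊤ : Subgroup N).subtype)
        fun a => ⟨⟨a, trivial⟩, rfl⟩)
    · exact ht₀1 (by
        have hb := Subgroup.isComplement'_top_left.1 hcompl
        have h4 : (t₀ : N) ∈ (T : Subgroup N) := t₀.2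
        rw [Subgroup.mem_bot.1 (hb.le h4), Subgroup.coe_one])
  obtain ⟨hu2, hu1⟩ := hout u huS huK
  have huo : orderOf u = 2 := involution_iff.2 ⟨hu2, hu1⟩
  have hinv : ∀ x ∈ K, u * x * u⁻¹ = x⁻¹ := fun x hx =>
    invert_of_outside P hz1 hu2 huK (hSM huS) hx
  have hMu : ∀ x ∈ M, x ∈ K ∨ x * u ∈ K := fun x hx =>
    mem_or_mul_mem P hz1 hu2 huK (hSM huS) (P.mem z) hzo hy hy1 hy2 hx
  -- transfer: the involution is conjugate into the component
  set Q := K ⊓ (S : Subgroup G) with hQ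
  have hQi : Q.relIndex (S : Subgroup G) = 2 := by
    rw [Subgroup.relIndex, Subgroup.index_eq_two_iff]
    refine ⟨⟨u, huS⟩, fun b => ?_⟩
    simp only [Subgroup.mem_subgroupOf, hQ, Subgroup.mem_inf, Subgroup.coe_mul, SetLike.coe_mem,
      and_true, mul_mem b.2 huS]
    rcases hMu b (hSM b.2) with h1 | h1
    · exact Or.inr ⟨h1, fun h2 => huK ((Subgroup.mul_mem_cancel_left K h1).1 h2)⟩
    · exact Or.inl ⟨h1, fun h2 => huK ((Subgroup.mul_mem_cancel_left K h2).1 h1)⟩
  obtain ⟨c, hcK⟩ : ∃ c : G, c * u * c⁻¹ ∈ K := by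
    rcases CfsgLib.Transfer.thompson_transfer S hQi hu2 huS (fun h1 => huK (Subgroup.mem_inf.1 h1).1)
      with ⟨L, hL, hLi, huL⟩ | ⟨c, -, hc⟩
    · refine absurd (hleN L hL (fun e => ?_) huN) huL
      rw [e, Subgroup.index_bot] at hLi
      exact h.not_solvable (Group.isSolvable_of_comm fun a b => by
        haveI := isCyclic_of_prime_card hLi
        exact IsCyclic.commGroup.mul_comm a b)
    · exact ⟨c, (Subgroup.mem_inf.1 hc).1⟩
  have huniq : ∀ x ∈ K, x * x = 1 → x = 1 ∨ x = z := by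
    intro x hx hx2
    by_contra! hne
    set L := P.comp u with hL
    have hcu1 : c * u * c⁻¹ ≠ 1 := fun e => hu1 (conj_eq_one_iff.1 e)
    -- the normalizer shape transported to the component of `u`
    have hconj : P.comp (c * u * c⁻¹) = K := P.eq z _ hz1 hcu1 hcK
    have hback : ∀ {a : G}, a ∈ K → c⁻¹ * a * c ∈ L := fun {a} ha => by
      rw [← hconj, P.conj c u hu1, mem_map_conj] at ha
      exact ha
    have hto : ∀ {a : G}, a ∈ L → c * a * c⁻¹ ∈ K := fun {a} ha => hconj ▸ P.conj_mem c hu1 ha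
    have hyu : orderOf (c⁻¹ * y * c) ≠ 2 := by
      have e := orderOf_cj c⁻¹ y
      rw [inv_inv] at e
      rwa [e]
    have hnot : ∀ {a : G}, a ∈ K → a ≠ 1 → a ∉ L := fun {a} ha ha1 haL =>
      huK (mem_of_comp_eq P ((P.eq u a hu1 ha1 haL).symm.trans (P.eq z a hz1 ha1 ha)))
    have hzc : Commute z u := (hSz u huS).symm
    have hxc : Commute x u := by
      have h1 := hinv x hx
      rw [inv_eq_of_mul_eq_one_right hx2, mul_inv_eq_iff_eq_mul] at h1
      exact h1.symm
    rcases mem_or_mul_mem P hu1 hz (hnot (P.mem z) hz1) (P.mem_normalizer_self hu1 hzc) (P.mem u)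
      huo (hback hy) (fun e => hy1 (conj_eq_one_iff.1 (show c⁻¹ * y * c⁻¹⁻¹ = 1 by rwa [inv_inv]))) hyu
      (P.mem_normalizer_self hu1 hxc) with h1 | h1
    · exact hnot hx hne.1 h1
    · refine hnot (mul_mem hx (P.mem z)) (fun e => hne.2 ?_) h1
      rw [eq_inv_of_mul_eq_one_left e, inv_eq_of_mul_eq_one_right hz]
  have hzN : z ∈ N := by
    rcases huniq _ hcK (by
      rw [show c * u * c⁻¹ * (c * u * c⁻¹) = c * (u * u) * c⁻¹ by group, hu2, mul_one,
        mul_inv_cancel]) with e | e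
    · exact absurd (conj_eq_one_iff.1 e) hu1
    · exact e ▸ hN.conj_mem u huN c
  -- one class of involutions in `N`
  have hnab : ¬ ∀ a b : N, a * b = b * a := fun hc => hNns (Group.isSolvable_of_comm hc)
  have hQN : ((Q.subgroupOf N)).relIndex (T : Subgroup N) = 2 := by
    rw [Subgroup.relIndex, Subgroup.index_eq_two_iff]
    refine ⟨⟨⟨u, huN⟩, (hTmem _).2 huS⟩, fun b => ?_⟩
    have hbS := (hTmem _).1 b.2
    simp only [Subgroup.mem_subgroupOf, hQ, Subgroup.mem_inf, Subgroup.coe_mul]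
    rcases hMu _ (hSM hbS) with h1 | h1
    · exact Or.inr ⟨⟨h1, hbS⟩, fun h2 => huK ((Subgroup.mul_mem_cancel_left K h1).1 h2.1)⟩
    · exact Or.inl ⟨⟨h1, mul_mem hbS huS⟩,
        fun h2 => huK ((Subgroup.mul_mem_cancel_left K h2.1).1 h1)⟩
  have hclass : ∀ a : N, orderOf a = 2 → IsConj a ⟨z, hzN⟩ := by
    intro a ha
    obtain ⟨ha2, ha1⟩ := involution_iff.1 ha
    obtain ⟨U, hU⟩ := (IsPGroup.of_card (p := 2) (n := 1)
      (by rw [Nat.card_zpowers, ha, pow_one] : Nat.card (Subgroup.zpowers a) = 2 ^ 1)).exists_le_sylow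
    obtain ⟨d, hd⟩ := MulAction.exists_smul_eq N U T
    have hd' : d * a * d⁻¹ ∈ (T : Subgroup N) := by
      rw [← hd, Sylow.coe_subgroup_smul, Subgroup.mem_pointwise_smul_iff_inv_smul_mem]
      simpa [MulAut.smul_def, mul_assoc] using hU (Subgroup.mem_zpowers a)
    refine (isConj_iff.2 ⟨d, rfl⟩).trans ?_
    have hi2 : (d * a * d⁻¹) * (d * a * d⁻¹) = 1 := by
      rw [show d * a * d⁻¹ * (d * a * d⁻¹) = d * (a * a) * d⁻¹ by group, ha2, mul_one, mul_inv_cancel]
    have hi1 : d * a * d⁻¹ ≠ 1 := fun e => ha1 (conj_eq_one_iff.1 e)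
    generalize d * a * d⁻¹ = b at hd' hi2 hi1
    have huniq' : ∀ e : N, (e : G) ∈ K → e * e = 1 → e ≠ 1 → e = ⟨z, hzN⟩ := fun e he he2 he1 =>
      Subtype.ext ((huniq e he (congrArg Subtype.val he2)).resolve_left fun h' => he1 (Subtype.ext h'))
    by_cases hbK : (b : G) ∈ K
    · rw [huniq' b hbK hi2 hi1]
    rcases CfsgLib.Transfer.thompson_transfer T hQN hi2 hd' (fun h1 => hbK
      (Subgroup.mem_inf.1 (Subgroup.mem_subgroupOf.1 h1)).1) with ⟨L, hL, hLi, hbL⟩ | ⟨e, -, he⟩
    · exfalso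
      rcases hL.eq_bot_or_eq_top with rfl | rfl
      · rw [Subgroup.index_bot] at hLi
        haveI := isCyclic_of_prime_card hLi
        exact hnab fun x y => IsCyclic.commGroup.mul_comm x y
      · exact hbL trivial
    · refine (isConj_iff.2 ⟨e, rfl⟩).trans ?_
      rw [huniq' _ (Subgroup.mem_inf.1 (Subgroup.mem_subgroupOf.1 he)).1 (by
        rw [show e * b * e⁻¹ * (e * b * e⁻¹) = e * (b * b) * e⁻¹ by group, hi2, mul_one,
          mul_inv_cancel]) fun e' => hi1 (conj_eq_one_iff.1 e')]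
  have hcent : ∀ g, Commute g z ↔ g ∈ K ∨ g * u ∈ K := by
    intro g
    refine ⟨fun hg => hMu g (P.mem_normalizer_self hz1 hg), ?_⟩
    rintro (h1 | h1)
    · exact hKc g h1 z (P.mem z)
    · have h2 : Commute u z := hSz u huS
      have := (hKc _ h1 z (P.mem z)).mul_left h2
      rwa [mul_assoc, hu2, mul_one] at this
  have hconjN : ∀ x ∈ N, ∀ w ∈ N, orderOf x = 2 → orderOf w = 2 → ∃ n ∈ N, n * x * n⁻¹ = w := by
    intro x hx w hw hxo hwo
    obtain ⟨n, hn⟩ := isConj_iff.1 ((hclass ⟨x, hx⟩ (by rwa [Subgroup.orderOf_mk])).trans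
      (hclass ⟨w, hw⟩ (by rwa [Subgroup.orderOf_mk])).symm)
    exact ⟨n, n.2, congrArg Subtype.val hn⟩
  have hpair : InvPair N K z u :=
    ⟨hzo, huo, P.mem z, huK, hzN, huN, hKc, hinv, huniq, hcent, hconjN⟩
  -- index at most two
  have hidx : N.index ≤ 2 := by
    have hsq : ∀ k ∈ K, k * k ∈ N := fun k hk => by
      have h1 : u * (k * u⁻¹ * k⁻¹) ∈ N := mul_mem huN (hN.conj_mem _ (inv_mem huN) k)
      rw [show u * (k * u⁻¹ * k⁻¹) = (u * k * u⁻¹) * k⁻¹ by group, hinv k hk, ← mul_inv_rev] at h1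
      exact inv_mem_iff.1 h1
    let f : K →* G ⧸ N := (QuotientGroup.mk' N).comp K.subtype
    let s : K →* K :=
      { toFun := fun k => k * k
        map_one' := one_mul 1
        map_mul' := fun a b => Subtype.ext (by
          have := (hKc _ b.2 _ a.2).eq
          simp only [Subgroup.coe_mul]
          rw [show (a : G) * b * (a * b) = a * ((b : G) * a) * b by group, this]
          group) }
    have hker : f.ker.index ≤ 2 := by
      refine le_trans (Nat.le_of_dvd ?_ (Subgroup.index_dvd_of_le (H := s.range) ?_)) ?_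
      · exact Nat.pos_of_ne_zero Subgroup.index_ne_zero_of_finite
      · rintro _ ⟨k, rfl⟩
        exact (QuotientGroup.eq_one_iff (N := N) _).2 (hsq k k.2)
      · have h1 : Nat.card s.ker ≤ 2 := by
          have hsub : (s.ker : Set K) ⊆ {1, ⟨z, P.mem z⟩} := fun k hk => by
            rcases huniq k k.2 (congrArg Subtype.val (MonoidHom.mem_ker.1 hk)) with e | e
            · exact Or.inl (Subtype.ext e)
            · exact Or.inr (Subtype.ext e)
          exact (Nat.card_coe_set_eq (s.ker : Set K)).trans_le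
            ((Set.ncard_le_ncard hsub (Set.toFinite _)).trans
              ((Set.ncard_insert_le _ _).trans (by rw [Set.ncard_singleton])))
        have h2 := s.range.card_mul_index
        rw [← Subgroup.card_mul_index s.ker, Subgroup.index_ker, mul_comm] at h2
        exact (Nat.eq_of_mul_eq_mul_left Nat.card_pos (by linarith [h2] :
          Nat.card s.range * s.range.index = Nat.card s.range * Nat.card s.ker)).trans_le h1
    have hsurj : Function.Surjective f := fun x => by
      obtain ⟨g, rfl⟩ := QuotientGroup.mk_surjective x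
      obtain ⟨n, hn, hnz⟩ := hconjN (g * z * g⁻¹) (hN.conj_mem z hzN g) z hzN
        (by rw [orderOf_cj, hzo]) hzo
      have hc : Commute (n * g) z := mul_inv_eq_iff_eq_mul.1 (by rw [show
        n * g * z * (n * g)⁻¹ = n * (g * z * g⁻¹) * n⁻¹ by group, hnz])
      rcases (hcent _).1 hc with h1 | h1
      · exact ⟨⟨_, h1⟩, by
          show ((n * g : G) : G ⧸ N) = g
          rw [QuotientGroup.mk_mul, (QuotientGroup.eq_one_iff n).2 hn, one_mul]⟩
      · exact ⟨⟨_, h1⟩, by
          show ((n * g * u : G) : G ⧸ N) = g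
          rw [QuotientGroup.mk_mul, QuotientGroup.mk_mul, (QuotientGroup.eq_one_iff n).2 hn,
            (QuotientGroup.eq_one_iff u).2 huN, one_mul, mul_one]⟩
    rwa [Subgroup.index_eq_card, ← Subgroup.card_top, ← MonoidHom.range_eq_top.2 hsurj,
      ← Subgroup.index_ker]
  refine ⟨N, hN, hNb, hidx, ?_, u, hpair⟩
  -- recognition
  set K₁ := K.subgroupOf N with hK₁
  let zN : N := ⟨z, hzN⟩
  let uN : N := ⟨u, huN⟩
  have hset : CfsgLib.BSW.Setting zN K₁ uN :=
    { t2 := by rw [Subgroup.orderOf_mk]; exact hzo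
      s2 := by rw [Subgroup.orderOf_mk]; exact huo
      comm := fun a ha b hb => Subtype.ext (hKc a ha b hb).eq
      tK := P.mem z
      inv := fun x hx => Subtype.ext (hinv x hx)
      uniq := fun x hx hx2 => (huniq x hx (congrArg Subtype.val hx2)).imp
        (fun e => Subtype.ext e) fun e => Subtype.ext e
      sK := huK
      cent := fun g => by
        rw [Subtype.ext_iff, Subgroup.coe_mul, Subgroup.coe_mul]
        exact hcent g
      ti := fun g x hx hx1 hgx => by
        have hgM : (g : G) ∈ M := P.mem_normalizer hz1 hx (fun e => hx1 (Subtype.ext e)) hgx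
        exact Subtype.ext ((hcent g).2 (hMu g hgM)).eq
      conj := fun x w hx hw => (hclass x hx).trans (hclass w hw).symm }
  have hH : K₁ ⊔ Subgroup.zpowers uN = Subgroup.centralizer ({zN} : Set N) := by
    refine le_antisymm (sup_le (fun a ha => ?_) (Subgroup.zpowers_le.2 ?_)) fun a ha => ?_
    · exact Subgroup.mem_centralizer_singleton_iff.2 ((hset.cent a).2 (Or.inl ha))
    · exact Subgroup.mem_centralizer_singleton_iff.2 (Subtype.ext (hSz u huS).eq)
    · rcases (hset.cent a).1 (Subgroup.mem_centralizer_singleton_iff.1 ha) with h1 | h1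
      · exact Subgroup.mem_sup_left h1
      · have e : a = a * uN * uN⁻¹ := by group
        rw [e]
        exact mul_mem (Subgroup.mem_sup_left h1)
          (inv_mem (Subgroup.mem_sup_right (Subgroup.mem_zpowers uN)))
  obtain ⟨F, i1, i2, hodd, ⟨e⟩⟩ := hset.isPSL hH
  refine ⟨F, i1, i2, ?_, hodd, ⟨e⟩⟩
  have h4 := four_le_of_not_solvable hNns e
  obtain ⟨m, hm⟩ := hodd
  omega

end CfsgLib.Partition
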