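import Mathlib
import Cfsg.Prelude.Def_Solvable
import Cfsg.Agent.Lib.Partition.Dihedral
import Cfsg.Agent.Lib.AutPSL.Structure
import Cfsg.Agent.Lib.CNStruct.Outer
import Cfsg.Agent.Lib.Classical.Card
import Cfsg.Agent.Lib.SL2.PSL

/-!
# The extension of index two

A group with a partition, a normal subgroup `PSL₂(q)` of index two and trivial centralizer of it
is `PGL₂(q)`: a field automorphism would have to invert a maximal torus.
-/

set_option autoImplicit false
set_option linter.unusedSectionVars false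
set_option linter.style.haveILetI false

open Matrix
open scoped MatrixGroups

namespace CfsgLib.Partition

open CfsgLib.AutPSL

universe u

section Field

variable {F : Type} [Field F] [Fintype F]

/-- A multiplicative sign attached to an automorphism inverting up to sign is the quadratic
character. -/
theorem isSquare_of_map_mul_self {σ : F ≃+* F} {i : F} (hi : i * i = -1) (h2 : (2 : F) ≠ 0)
    (hσ : ∀ a : F, a ≠ 0 → σ a = a⁻¹ ∨ σ a = -a⁻¹) {w : F} (hw : σ w * w = 1) : IsSquare w := by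
  classical
  by_contra hns
  have hsign : ∀ a : F, a ≠ 0 → σ a * a = 1 ∨ σ a * a = -1 := fun a ha => by
    rcases hσ a ha with e | e <;> rw [e]
    · exact Or.inl (inv_mul_cancel₀ ha)
    · exact Or.inr (by rw [neg_mul, inv_mul_cancel₀ ha])
  have hall : ∀ a : F, a ≠ 0 → σ a * a = 1 := by
    intro a ha
    have hsq : ∀ c : F, c ≠ 0 → σ (c * c) * (c * c) = 1 := fun c hc => by
      rw [map_mul, show σ c * σ c * (c * c) = (σ c * c) * (σ c * c) by ring]
      rcases hsign c hc with e | e <;> rw [e] <;> ring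
    by_cases has : IsSquare a
    · obtain ⟨c, rfl⟩ := has
      exact hsq c fun e => ha (by rw [e, mul_zero])
    have hwne : w ≠ 0 := fun e => hns (e ▸ IsSquare.zero)
    have hF : ringChar F ≠ 2 := fun e => h2 (by
      have := CharP.cast_eq_zero F (ringChar F); rw [e] at this; exact_mod_cast this)
    obtain ⟨c, hc⟩ := (quadraticChar_one_iff_isSquare (mul_ne_zero ha hwne)).1
      (by rw [map_mul, quadraticChar_neg_one_iff_not_isSquare.2 has,
        quadraticChar_neg_one_iff_not_isSquare.2 hns]; norm_num)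
    have h1 := hsq c fun e => mul_ne_zero ha hwne (by rw [hc, e, mul_zero])
    rw [← hc, map_mul, show σ a * σ w * (a * w) = (σ a * a) * (σ w * w) by ring, hw, mul_one] at h1
    exact h1
  have hi0 : i ≠ 0 := fun e => by rw [e, mul_zero] at hi; exact one_ne_zero (neg_eq_zero.1 hi.symm)
  have h1i : (1 : F) + i ≠ 0 := fun e => h2 (by
    have : i = -1 := eq_neg_of_add_eq_zero_right e
    rw [this] at hi; linear_combination hi)
  have hσi : σ i = -i := by
    have := hall i hi0
    linear_combination (-i) * this + σ i * hi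
  have := hall _ h1i
  rw [map_add, map_one, hσi] at this
  have h4 : (1 : F) = 0 := by linear_combination this + hi
  exact one_ne_zero h4

/-- An automorphism with `σ a = ± a` everywhere is trivial. -/
theorem eq_one_of_map_eq_sign {σ : F ≃+* F} (h2 : (2 : F) ≠ 0)
    (hσ : ∀ a : F, a ≠ 0 → σ a = a ∨ σ a = -a) : σ = 1 := by
  refine RingEquiv.ext fun a => ?_
  show σ a = a
  by_cases ha : a = 0
  · rw [ha, map_zero]
  rcases hσ a ha with e | e
  · exact e
  exfalso
  by_cases h1 : (1 : F) + a = 0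
  · have : a = -1 := eq_neg_of_add_eq_zero_right h1
    rw [this, map_neg, map_one, neg_neg] at e
    exact h2 (by linear_combination -e)
  rcases hσ _ h1 with e1 | e1 <;> rw [map_add, map_one, e] at e1
  · exact ha (mul_left_cancel₀ h2 (by linear_combination -e1))
  · exact h2 (by linear_combination e1)

/-- The diagonal matrices of determinant one. -/
def torus (a : Fˣ) : SL(2, F) :=
  ⟨!![(a : F), 0; 0, ((a⁻¹ : Fˣ) : F)], by simp [Matrix.det_fin_two]⟩

theorem coe_torus (a : Fˣ) :
    ((torus a : SL(2, F)) : Matrix (Fin 2) (Fin 2) F) = !![(a : F), 0; 0, ((a⁻¹ : Fˣ) : F)] := rfl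

theorem center_two {c : SL(2, F)} (hc : c ∈ Subgroup.center SL(2, F)) :
    ∃ r : F, (c : Matrix (Fin 2) (Fin 2) F) = !![r, 0; 0, r] ∧ r * r = 1 := by
  obtain ⟨r, hr⟩ := CNStruct.center_diag hc
  refine ⟨r, ?_, ?_⟩
  · ext k l
    fin_cases k <;> fin_cases l <;> simp [hr]
  · have := c.2
    rw [Matrix.det_fin_two, hr, hr, hr, hr] at this
    simpa using this

theorem torus_mul (a b : Fˣ) : torus (a * b) = torus a * torus b := by
  apply Subtype.ext
  rw [Matrix.SpecialLinearGroup.coe_mul, coe_torus, coe_torus, coe_torus, mul_inv, Units.val_mul,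
    Units.val_mul]
  ext k l
  fin_cases k <;> fin_cases l <;> simp

/-- Semilinear fixing of a torus element. -/
theorem fix_torus {g : GL (Fin 2) F} {σ : F ≃+* F} {a : Fˣ}
    (h : (delta g * fieldAut σ : MulAut PSL(2, F)) (mkP (torus a)) = mkP (torus a)) :
    ((g : Matrix (Fin 2) (Fin 2) F) 0 0 ≠ 0 ∨ (g : Matrix (Fin 2) (Fin 2) F) 1 1 ≠ 0 →
      σ a = a ∨ σ a = -(a : F)) ∧
    ((g : Matrix (Fin 2) (Fin 2) F) 0 1 ≠ 0 ∨ (g : Matrix (Fin 2) (Fin 2) F) 1 0 ≠ 0 →
      σ a = (a : F)⁻¹ ∨ σ a = -(a : F)⁻¹) := by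
  have h' : (mkP (conjMat g (mapMat σ (torus a))) : PSL(2, F)) = mkP (torus a) := by
    rw [MulAut.mul_apply] at h
    exact h
  obtain ⟨c, hc, hcs⟩ := CNStruct.mk_eq_mk_iff.1 h'
  obtain ⟨r, hr, hr2⟩ := center_two hc
  have hm := congrArg Subtype.val hcs
  rw [conjMat_coe, Matrix.SpecialLinearGroup.coe_mul, hr, Units.mul_inv_eq_iff_eq_mul, mapMat_coe,
    coe_torus] at hm
  have e00 := congrFun (congrFun hm 0) 0
  have e01 := congrFun (congrFun hm 0) 1
  have e10 := congrFun (congrFun hm 1) 0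
  have e11 := congrFun (congrFun hm 1) 1
  simp [Matrix.mul_apply, Fin.sum_univ_two] at e00 e01 e10 e11
  have ha : (a : F) ≠ 0 := a.ne_zero
  have hsa : σ (a : F) ≠ 0 := fun e => ha (by simpa using e)
  rcases mul_self_eq_one_iff.1 hr2 with rfl | rfl
  · refine ⟨fun hh => Or.inl ?_, fun hh => Or.inl ?_⟩
    · rcases hh with hh | hh
      · exact mul_left_cancel₀ hh (by linear_combination e00)
      · field_simp at e11
        linear_combination -e11
    · rcases hh with hh | hh
      · field_simp at e01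
        refine mul_left_cancel₀ hh ?_
        field_simp
        linear_combination -e01
      · field_simp at e10
        refine mul_left_cancel₀ hh ?_
        field_simp
        linear_combination e10
  · refine ⟨fun hh => Or.inr ?_, fun hh => Or.inr ?_⟩
    · rcases hh with hh | hh
      · exact mul_left_cancel₀ hh (by linear_combination e00)
      · field_simp at e11
        linear_combination e11
    · rcases hh with hh | hh
      · field_simp at e01
        refine mul_left_cancel₀ hh ?_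
        field_simp
        linear_combination e01
      · field_simp at e10
        refine mul_left_cancel₀ hh ?_
        field_simp
        linear_combination e10

theorem antidiag_of_invert {h : SL(2, F)} {a : Fˣ} (ha : (a : F) * a * (a * a) ≠ 1)
    (he : (mkP h : PSL(2, F)) * mkP (torus a) = mkP (torus a⁻¹) * mkP h) :
    (h : Matrix (Fin 2) (Fin 2) F) 0 0 = 0 ∧ (h : Matrix (Fin 2) (Fin 2) F) 1 1 = 0 := by
  rw [← map_mul, ← map_mul] at he
  obtain ⟨c, hc, hcs⟩ := CNStruct.mk_eq_mk_iff.1 he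
  obtain ⟨r, hr, hr2⟩ := center_two hc
  have hm := congrArg Subtype.val hcs
  simp only [Matrix.SpecialLinearGroup.coe_mul, hr, coe_torus, inv_inv] at hm
  have e00 := congrFun (congrFun hm 0) 0
  have e11 := congrFun (congrFun hm 1) 1
  simp [Matrix.mul_apply, Fin.sum_univ_two, Matrix.vecMul, dotProduct] at e00 e11
  have ha0 : (a : F) ≠ 0 := a.ne_zero
  have hne : (a : F) * a ≠ r := fun e => ha (by rw [e, hr2])
  constructor
  · by_contra h0
    field_simp at e00
    exact hne (by linear_combination e00)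
  · by_contra h0
    field_simp at e11
    refine ha ?_
    have : r * ((a : F) * a) = 1 := by linear_combination -e11
    rcases mul_self_eq_one_iff.1 hr2 with rfl | rfl <;> grind

end Field

variable {G : Type u} [Group G] [Finite G] {P : Part G}

theorem delta_mul_field_mul {F : Type} [Field F] (g g' : GL (Fin 2) F) (σ σ' : F ≃+* F) :
    (delta g * fieldAut σ * (delta g' * fieldAut σ') : MulAut PSL(2, F)) =
      delta (g * mapGL σ g') * fieldAut (σ * σ') := by
  rw [mul_assoc, ← mul_assoc (fieldAut σ), fieldAut_mul_delta, mul_assoc, ← map_mul fieldAut,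
    ← mul_assoc, ← map_mul]

theorem delta_eq_of_diag {F : Type} [Field F] {M M' : GL (Fin 2) F}
    (h : ∃ c : F, c ≠ 0 ∧ (M : Matrix (Fin 2) (Fin 2) F) = c • (M' : Matrix (Fin 2) (Fin 2) F)) :
    (delta M : MulAut PSL(2, F)) = delta M' := by
  obtain ⟨c, hc, hM⟩ := h
  have e : M = M' * Matrix.GeneralLinearGroup.scalar (Fin 2) (Units.mk0 c hc) := by
    refine Units.ext ?_
    rw [hM, Units.val_mul, Matrix.GeneralLinearGroup.coe_scalar]
    ext k l
    simp [Matrix.scalar_apply, mul_comm]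
  rw [e, map_mul, delta_eq_one_of_mem_center (CfsgLib.AutPSL.scalar_mem_center _), mul_one]

set_option maxHeartbeats 1000000 in
/-- **The extension of index two.** -/
theorem Hyp.index_two (h : Hyp P) [Nontrivial G] {N K : Subgroup G} [hN : N.Normal] (hNb : N ≠ ⊥)
    (hidx : N.index = 2) {z u : G} (hp : InvPair N K z u) {F : Type} [Field F] [Fintype F]
    (h5 : 5 ≤ Fintype.card F) (hodd : Odd (Fintype.card F))
    (e₀ : N ≃* Matrix.ProjectiveSpecialLinearGroup (Fin 2) F) :
    Nonempty (G ≃* (GL (Fin 2) F ⧸ Subgroup.center (GL (Fin 2) F))) := by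
  classical
  obtain ⟨p, hcp⟩ := CharP.exists F
  obtain ⟨f, hpp, hf⟩ := FiniteField.card F p
  haveI := Fact.mk hpp
  have hchar : ringChar F ≠ 2 := fun e =>
    Nat.not_even_iff_odd.2 hodd (Nat.even_iff.2 (FiniteField.even_card_iff_char_two.1 e))
  have h2 : (2 : F) ≠ 0 := Ring.two_ne_zero hchar
  -- an element of the component outside `N`
  have hzo := hp.z2
  obtain ⟨k₀, hk₀K, hk₀N⟩ : ∃ k ∈ K, k ∉ N := by
    obtain ⟨g, hg⟩ := SetLike.not_le_iff_exists.1 (fun hle : (⊤ : Subgroup G) ≤ N => by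
      rw [top_le_iff.1 hle, Subgroup.index_top] at hidx; exact absurd hidx (by norm_num))
    obtain ⟨n, hn, hnz⟩ := hp.conjN (g * z * g⁻¹) (hN.conj_mem z hp.zN g) z hp.zN
      (by rw [orderOf_cj, hzo]) hzo
    have hc : Commute (n * g) z := mul_inv_eq_iff_eq_mul.1 (by
      rw [show n * g * z * (n * g)⁻¹ = n * (g * z * g⁻¹) * n⁻¹ by group, hnz])
    rcases (hp.cent _).1 hc with h1 | h1
    · exact ⟨_, h1, fun h' => hg.2 ((Subgroup.mul_mem_cancel_left N hn).1 h')⟩
    · exact ⟨_, h1, fun h' => hg.2 ((Subgroup.mul_mem_cancel_left N hn).1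
        ((Subgroup.mul_mem_cancel_right N hp.uN).1 h'))⟩
  -- the embedding in the automorphism group
  let emb : (N ≃* PSL(2, F)) → (G →* MulAut PSL(2, F)) := fun e =>
    (MulAut.congr e).toMonoidHom.comp MulAut.conjNormal
  have hinj : ∀ e, Function.Injective (emb e) := by
    intro e
    refine (MonoidHom.ker_eq_bot_iff _).1 (eq_bot_iff.2 fun g hg => ?_)
    rw [← h.centralizer_eq_bot hNb]
    refine Subgroup.mem_centralizer_iff.2 fun n hn => ?_
    have h1 : (MulAut.conjNormal g : MulAut N) = 1 :=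
      (MulAut.congr e).injective ((MonoidHom.mem_ker.1 hg).trans (map_one _).symm)
    have h3 := congrArg Subtype.val (DFunLike.congr_fun h1 (⟨n, hn⟩ : N))
    rw [MulAut.conjNormal_apply] at h3
    exact (mul_inv_eq_iff_eq_mul.1 h3).symm
  have happ : ∀ e g (x : N), emb e g (e x) = e (MulAut.conjNormal g x) := fun e g x => by
    show e ((MulAut.conjNormal g : MulAut N) (e.symm (e x))) = _
    rw [MulEquiv.symm_apply_apply]
  have hinner : ∀ e (x : N), emb e (x : G) = MulAut.conj (e x) := fun e x => MulEquiv.ext fun y => by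
    obtain ⟨y, rfl⟩ := e.surjective y
    rw [happ, MulAut.conj_apply, ← map_inv, ← map_mul, ← map_mul]
    exact congrArg e (Subtype.ext (MulAut.conjNormal_apply _ _))
  have hcomp1 : ∀ e (x : N), componentTwo p (emb e (x : G)) = 1 := fun e x => by
    obtain ⟨s, hs⟩ := mkP_surjective (e x)
    rw [hinner, ← hs, ← delta_toGL]
    have := componentTwo_eq (F := F) p (Matrix.SpecialLinearGroup.toGL s) 1
    rwa [map_one, mul_one] at this
  by_cases hex : ∃ e : N ≃* PSL(2, F), componentTwo p (emb e k₀) = 1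
  · -- the projective general linear group
    obtain ⟨e₁, hσ1⟩ := hex
    have hall : ∀ g : G, componentTwo p (emb e₁ g) = 1 := fun g => by
      by_cases hg : g ∈ N
      · exact hcomp1 e₁ ⟨g, hg⟩
      have hgk : g * k₀ ∈ N :=
        (Subgroup.mul_mem_iff_of_index_two hidx).2 ⟨fun h' => absurd h' hg, fun h' => absurd h' hk₀N⟩
      have h1 := hcomp1 e₁ ⟨g * k₀, hgk⟩
      rwa [map_mul, map_mul, hσ1, mul_one] at h1
    have hrange : ∀ g, emb e₁ g ∈ (deltaP : Matrix.ProjGenLinGroup (Fin 2) F →* _).range := fun g => by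
      rw [range_deltaP, ← ker_componentTwo p]
      exact hall g
    let E := MonoidHom.ofInjective (deltaP_injective (F := F) p (le_refl 2))
    let φ : G →* Matrix.ProjGenLinGroup (Fin 2) F :=
      E.symm.toMonoidHom.comp ((emb e₁).codRestrict _ hrange)
    have hφ : Function.Injective φ := fun a b hab => by
      have h1 := E.symm.injective hab
      exact hinj e₁ (congrArg Subtype.val h1)
    have hcard : Nat.card G = Nat.card (Matrix.ProjGenLinGroup (Fin 2) F) := by
      rw [CfsgLib.Classical.card_PGL_eq_card_SL, SL2.card_SL_two', ← SL2.card_PSL,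
        ← N.card_mul_index, hidx, Nat.card_congr e₁.toEquiv, mul_comm]
      congr 1
      obtain ⟨m, hm⟩ := hodd
      rw [Nat.card_eq_fintype_card, hm, Nat.add_sub_cancel, Nat.gcd_mul_right_right]
    exact ⟨MulEquiv.ofBijective φ ((Nat.bijective_iff_injective_and_card _).2 ⟨hφ, hcard⟩)⟩
  -- a field automorphism: impossible
  exfalso
  push Not at hex
  have hcyc := card_ringAut_isCyclic (F := F) hf f.pos
  have hsq : ∀ e, componentTwo p (emb e k₀) * componentTwo p (emb e k₀) = 1 := fun e => by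
    rw [← map_mul, ← map_mul]
    exact hcomp1 e ⟨k₀ * k₀, Subgroup.mul_self_mem_of_index_two hidx k₀⟩
  have hneg : IsSquare (-1 : F) := by
    rw [FiniteField.isSquare_neg_one_iff]
    have hne := hex e₀
    have ho : orderOf (componentTwo p (emb e₀ k₀)) = 2 :=
      orderOf_eq_prime (by rw [pow_two]; exact hsq e₀) hne
    obtain ⟨m, hm⟩ : 2 ∣ (f : ℕ) := by
      rw [← hcyc.2, ← ho]; exact orderOf_dvd_natCard _
    rw [hf, hm, pow_mul]
    intro h3
    have hp2 : p ^ 2 % 4 = 1 ∨ p ^ 2 % 4 = 0 := by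
      rcases Nat.even_or_odd p with ⟨j, hj⟩ | ⟨j, hj⟩ <;> subst hj <;> [right; left] <;> ring_nf <;>
        omega
    rw [Nat.pow_mod] at h3
    rcases hp2 with e | e <;> rw [e] at h3
    · simp at h3
    · rcases m with - | m <;> simp at h3
  obtain ⟨i, hi⟩ := hneg
  have hi' : i * i = -1 := hi.symm
  have hi0 : i ≠ 0 := fun e => by rw [e, mul_zero] at hi'; exact one_ne_zero (neg_eq_zero.1 hi'.symm)
  set iu : Fˣ := Units.mk0 i hi0
  have hiu : (iu⁻¹ : Fˣ) = (-iu : Fˣ) := by
    refine inv_eq_of_mul_eq_one_right (Units.ext ?_)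
    simp [iu, hi']
  -- the base point
  set Z₀ : PSL(2, F) := mkP (torus iu) with hZ₀
  have hmk1 : ∀ a : Fˣ, (mkP (torus a) : PSL(2, F)) = 1 ↔ (a : F) = 1 ∨ (a : F) = -1 := by
    intro a
    constructor
    · intro hh
      obtain ⟨r, hr, hr2⟩ := center_two ((QuotientGroup.eq_one_iff _).1 hh)
      have h00 := congrFun (congrFun hr 0) 0
      simp [coe_torus] at h00
      rw [h00]
      exact mul_self_eq_one_iff.1 hr2
    · intro hh
      refine (QuotientGroup.eq_one_iff _).2 (Subgroup.mem_center_iff.2 fun s => Subtype.ext ?_)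
      have hinv : ((a⁻¹ : Fˣ) : F) = a := by
        rw [Units.val_inv_eq_inv_val]
        rcases hh with e | e <;> rw [e] <;> norm_num
      rw [Matrix.SpecialLinearGroup.coe_mul, Matrix.SpecialLinearGroup.coe_mul, coe_torus, hinv]
      ext k l
      fin_cases k <;> fin_cases l <;> simp [Matrix.mul_apply, Fin.sum_univ_two] <;> ring
  have hne1i : ¬ (i = 1 ∨ i = -1) := by
    rintro (e | e) <;> rw [e] at hi' <;> exact h2 (by linear_combination hi')
  have hZo : orderOf Z₀ = 2 := by
    refine orderOf_eq_prime ?_ fun hh => hne1i ((hmk1 iu).1 hh)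
    rw [hZ₀, pow_two, ← map_mul, ← torus_mul]
    exact (hmk1 _).2 (Or.inr (by simp [iu, hi']))
  obtain ⟨n, hn, hnz⟩ := hp.conjN z hp.zN ((e₀.symm Z₀ : N) : G) (e₀.symm Z₀).2 hzo
    (by rw [Subgroup.orderOf_coe, MulEquiv.orderOf_eq, hZo])
  set e : N ≃* PSL(2, F) := (MulAut.conjNormal n : MulAut N).trans e₀ with he
  have hez : e ⟨z, hp.zN⟩ = Z₀ := by
    rw [he, MulEquiv.trans_apply, ← MulEquiv.eq_symm_apply]
    exact Subtype.ext ((MulAut.conjNormal_apply _ _).trans hnz)
  have hσ : componentTwo p (emb e k₀) ≠ 1 := hex e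
  -- coordinates
  have hmem : ∀ a : Fˣ, ((e.symm (mkP (torus a)) : N) : G) ∈ K := by
    intro a
    set x : N := e.symm (mkP (torus a)) with hx
    have hcz : Commute (x : G) z := by
      have h1 : x * ⟨z, hp.zN⟩ = ⟨z, hp.zN⟩ * x := e.injective (by
        rw [map_mul, map_mul, hez, hx, MulEquiv.apply_symm_apply, hZ₀, ← map_mul, ← map_mul,
          ← torus_mul, ← torus_mul, mul_comm a])
      exact congrArg Subtype.val h1
    rcases (hp.cent _).1 hcz with h1 | h1
    · exact h1
    have hinv := hp.inv _ h1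
    have hu2 : u * u = 1 := (CfsgLib.Invol.CASimple.involution_iff.1 hp.u2).1
    have hxx : (x : G) * x = 1 := by
      rw [show u * ((x : G) * u) * u⁻¹ = u * x by group, _root_.mul_inv_rev,
        inv_eq_of_mul_eq_one_right hu2] at hinv
      exact eq_inv_iff_mul_eq_one.1 (mul_left_cancel hinv)
    have hxx' : (mkP (torus (a * a)) : PSL(2, F)) = 1 := by
      have h3 := congrArg e (show x * x = 1 from Subtype.ext hxx)
      rwa [map_mul, hx, MulEquiv.apply_symm_apply, map_one, ← map_mul, ← torus_mul] at h3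
    rcases (hmk1 _).1 hxx' with h3 | h3 <;> rw [Units.val_mul] at h3
    · have : x = 1 := e.injective (by
        rw [hx, MulEquiv.apply_symm_apply, map_one]; exact (hmk1 a).2 (mul_self_eq_one_iff.1 h3))
      rw [this]; exact K.one_mem
    · have hai : (a : F) = i ∨ (a : F) = -i := mul_self_eq_mul_self_iff.1 (by rw [h3, hi'])
      have : x = ⟨z, hp.zN⟩ := e.injective (by
        rw [hx, MulEquiv.apply_symm_apply, hez, hZ₀]
        rcases hai with e' | e'
        · rw [show a = iu from Units.ext e']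
        · have ea : a = iu * -1 := Units.ext (by simp [iu, e'])
          rw [ea, torus_mul, map_mul, (hmk1 (-1)).2 (Or.inr (by simp)), mul_one])
      rw [this]; exact hp.zK
  -- the inverting involution is antidiagonal
  obtain ⟨hs, hhs⟩ := mkP_surjective (e ⟨u, hp.uN⟩)
  obtain ⟨gk, σ, hgk⟩ := exists_normal_form_two p (emb e k₀)
  have hσne : σ ≠ 1 := fun e' => hσ (by rw [hgk, componentTwo_eq, e'])
  have hσσ : σ * σ = 1 := by
    have := hsq e
    rwa [hgk, componentTwo_eq] at this
  have hfix : ∀ a : Fˣ, (delta gk * fieldAut σ : MulAut PSL(2, F)) (mkP (torus a)) = mkP (torus a) := by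
    intro a
    rw [← hgk]
    conv_lhs => rw [← e.apply_symm_apply (mkP (torus a))]
    rw [happ]
    refine (congrArg e (Subtype.ext ?_)).trans (e.apply_symm_apply _)
    rw [MulAut.conjNormal_apply, (hp.comm _ hk₀K _ (hmem a)).eq, mul_inv_cancel_right]
  have hdet : ∀ (g : GL (Fin 2) F), (g : Matrix (Fin 2) (Fin 2) F).det ≠ 0 := fun g =>
    ((Matrix.isUnit_iff_isUnit_det _).1 g.isUnit).ne_zero
  have hg00 : (gk : Matrix (Fin 2) (Fin 2) F) 0 0 = 0 ∧ (gk : Matrix (Fin 2) (Fin 2) F) 1 1 = 0 := by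
    by_contra hh
    refine hσne (eq_one_of_map_eq_sign h2 fun a ha => ?_)
    exact (fix_torus (hfix (Units.mk0 a ha))).1 (by
      by_contra h'; push Not at h'; exact hh h')
  obtain ⟨hg0, hg1⟩ := hg00
  have hgdet := hdet gk
  rw [Matrix.det_fin_two, hg0, hg1, mul_zero, zero_sub, neg_ne_zero, mul_ne_zero_iff] at hgdet
  obtain ⟨hg01, hg10⟩ := hgdet
  have hσinv : ∀ a : F, a ≠ 0 → σ a = a⁻¹ ∨ σ a = -a⁻¹ := fun a ha =>
    (fix_torus (hfix (Units.mk0 a ha))).2 (Or.inl hg01)
  -- a torus element of order above four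
  obtain ⟨a, ha⟩ : ∃ a : Fˣ, (a : F) * a * (a * a) ≠ 1 := by
    obtain ⟨ω, hω⟩ := IsCyclic.exists_generator (α := Fˣ)
    refine ⟨ω, fun h4 => ?_⟩
    have hω4 : ω ^ 4 = 1 := Units.ext (by rw [Units.val_pow_eq_pow_val, Units.val_one]; linear_combination h4)
    have hd := orderOf_dvd_of_pow_eq_one hω4
    rw [orderOf_eq_card_of_forall_mem_zpowers hω, Nat.card_units, Nat.card_eq_fintype_card] at hd
    have hle := Nat.le_of_dvd (by norm_num) hd
    have hq5 : Fintype.card F = 5 := by omega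
    rw [hf] at hq5
    have hf1 : (f : ℕ) = 1 := by
      have h5p : (p ^ (f : ℕ)).Prime := by rw [hq5]; norm_num
      exact (Nat.Prime.pow_eq_iff (by rw [hq5] at h5p ⊢; exact h5p) |>.1 rfl).2
    obtain ⟨hcy, hcard⟩ := hcyc
    rw [hf1] at hcard
    haveI := (Nat.card_eq_one_iff_unique.1 hcard).1
    exact hσne (Subsingleton.elim _ _)
  have hanti : (hs : Matrix (Fin 2) (Fin 2) F) 0 0 = 0 ∧ (hs : Matrix (Fin 2) (Fin 2) F) 1 1 = 0 := by
    refine antidiag_of_invert ha ?_
    have hti : (mkP (torus a⁻¹) : PSL(2, F)) = (mkP (torus a))⁻¹ := by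
      refine eq_inv_of_mul_eq_one_left ?_
      rw [← map_mul, ← torus_mul, inv_mul_cancel]
      exact (hmk1 1).2 (Or.inl rfl)
    rw [hti, hhs, ← e.apply_symm_apply (mkP (torus a)), ← map_inv, ← map_mul, ← map_mul]
    exact congrArg e (Subtype.ext (mul_inv_eq_iff_eq_mul.1 (hp.inv _ (hmem a))))
  obtain ⟨hh0, hh1⟩ := hanti
  have hhdet : (hs : Matrix (Fin 2) (Fin 2) F) 0 1 * (hs : Matrix (Fin 2) (Fin 2) F) 1 0 = -1 := by
    have := hs.2
    rw [Matrix.det_fin_two, hh0, hh1] at this
    linear_combination -this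
  -- the involution `u k₀`
  have hv : (u * k₀) * (u * k₀) = 1 := by
    rw [show u * k₀ * (u * k₀) = (u * k₀ * u⁻¹) * ((u * u) * k₀) by group, hp.inv k₀ hk₀K,
      (CfsgLib.Invol.CASimple.involution_iff.1 hp.u2).1, one_mul, inv_mul_cancel]
  set m : GL (Fin 2) F := Matrix.SpecialLinearGroup.toGL hs * gk with hm
  have hψv : emb e (u * k₀) = delta m * fieldAut σ := by
    rw [map_mul, hinner e ⟨u, hp.uN⟩, ← hhs, ← delta_toGL, hgk, ← mul_assoc, ← map_mul]
  have hvv : (delta (m * mapGL σ m) * fieldAut (σ * σ) : MulAut PSL(2, F)) = 1 := by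
    rw [← delta_mul_field_mul, ← hψv, ← map_mul, hv, map_one]
  obtain ⟨hcen, -⟩ := mem_center_of_delta_fieldAut p le_rfl hvv
  obtain ⟨c, hc⟩ : ∃ c : F, ((m * mapGL σ m : GL (Fin 2) F) : Matrix (Fin 2) (Fin 2) F) =
      !![c, 0; 0, c] := by
    rw [Matrix.GeneralLinearGroup.center_eq_range_scalar] at hcen
    obtain ⟨r, hr⟩ := hcen
    refine ⟨(r : F), ?_⟩
    rw [← hr, Matrix.GeneralLinearGroup.coe_scalar]
    ext k l
    fin_cases k <;> fin_cases l <;> simp
  set x := (hs : Matrix (Fin 2) (Fin 2) F) 0 1 * (gk : Matrix (Fin 2) (Fin 2) F) 1 0 with hx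
  set y := (hs : Matrix (Fin 2) (Fin 2) F) 1 0 * (gk : Matrix (Fin 2) (Fin 2) F) 0 1 with hy
  have hmval : (m : Matrix (Fin 2) (Fin 2) F) = !![x, 0; 0, y] := by
    rw [hm, Units.val_mul]
    ext k l
    fin_cases k <;> fin_cases l <;> simp [Matrix.mul_apply, Fin.sum_univ_two, hh0, hh1, hg0, hg1, hx, hy]
  have hmap : ∀ M : GL (Fin 2) F, ((mapGL σ M : GL (Fin 2) F) : Matrix (Fin 2) (Fin 2) F) =
      (M : Matrix (Fin 2) (Fin 2) F).map σ := fun M => rfl
  rw [Units.val_mul, hmap, hmval] at hc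
  have c0 := congrFun (congrFun hc 0) 0
  have c1 := congrFun (congrFun hc 1) 1
  simp [Matrix.mul_apply, Fin.sum_univ_two] at c0 c1
  have hx0 : x ≠ 0 := mul_ne_zero (fun e' => by rw [e', zero_mul] at hhdet; exact one_ne_zero (neg_eq_zero.1 hhdet.symm)) hg10
  have hy0 : y ≠ 0 := mul_ne_zero (fun e' => by rw [e', mul_zero] at hhdet; exact one_ne_zero (neg_eq_zero.1 hhdet.symm)) hg01
  have hw : σ (x / y) * (x / y) = 1 := by
    have hsy : σ y ≠ 0 := fun e' => hy0 (by simpa using e')
    rw [map_div₀]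
    field_simp
    linear_combination c0 - c1
  obtain ⟨r, hr⟩ := isSquare_of_map_mul_self hi' h2 hσinv hw
  -- so the ratio of the entries is a square
  set h01 := (hs : Matrix (Fin 2) (Fin 2) F) 0 1
  have hh01 : h01 ≠ 0 := fun e' => hx0 (by rw [hx]; simp [h01] at e'; simp [h01, e'])
  set s : F := r / (i * h01) with hs'
  have hts : (gk : Matrix (Fin 2) (Fin 2) F) 1 0 = s * s * (gk : Matrix (Fin 2) (Fin 2) F) 0 1 := by
    have hxy : x = r * r * y := by rw [← hr]; field_simp
    have h10 : (hs : Matrix (Fin 2) (Fin 2) F) 1 0 ≠ 0 := fun e' => hy0 (by rw [hy, e', zero_mul])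
    rw [hs']
    field_simp
    refine mul_left_cancel₀ hh01 ?_
    rw [hx, hy] at hxy
    linear_combination (i * i * h01 * h01) * hxy + (r * r * (gk : Matrix (Fin 2) (Fin 2) F) 0 1 * i * i * h01) * hhdet - (r * r * (gk : Matrix (Fin 2) (Fin 2) F) 0 1 * h01) * hi'
  have hs0 : s ≠ 0 := fun e' => hg10 (by rw [hts, e']; ring)
  set a₁ : Fˣ := (Units.mk0 s hs0)⁻¹ with ha₁
  -- the squares agree
  set w : N := e.symm (mkP (torus a₁)) with hw'
  have hsame : emb e (k₀ * k₀) = emb e ((w : G) * w) := by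
    rw [map_mul, hgk, delta_mul_field_mul, hσσ, map_one, mul_one,
      show ((w : G) * w) = ((w * w : N) : G) from rfl, hinner, map_mul e, hw',
      MulEquiv.apply_symm_apply, ← map_mul, ← torus_mul, ← delta_toGL]
    refine delta_eq_of_diag ⟨(gk : Matrix (Fin 2) (Fin 2) F) 0 1 *
      σ ((gk : Matrix (Fin 2) (Fin 2) F) 1 0) * (s * s), ?_, ?_⟩
    · exact mul_ne_zero (mul_ne_zero hg01 fun e' => hg10 (by simpa using e')) (mul_ne_zero hs0 hs0)
    rw [Units.val_mul, hmap]
    show _ = _ • ((torus (a₁ * a₁) : SL(2, F)) : Matrix (Fin 2) (Fin 2) F)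
    rw [coe_torus]
    have hσs : σ s * σ s = (s * s)⁻¹ := by
      rcases hσinv s hs0 with e' | e' <;> rw [e', mul_inv] <;> ring
    ext k l
    fin_cases k <;> fin_cases l <;>
      simp [Matrix.mul_apply, Fin.sum_univ_two, hg0, hg1, ha₁]
    · field_simp
    · rw [hts, map_mul, map_mul, hσs]
      field_simp
  have hkk : k₀ * k₀ = (w : G) * w := hinj e hsame
  have hcomm := hp.comm _ hk₀K _ (inv_mem (hmem a₁))
  rcases hp.uniq (k₀ * (w : G)⁻¹) (mul_mem hk₀K (inv_mem (hmem a₁))) (by
    rw [show k₀ * (w : G)⁻¹ * (k₀ * (w : G)⁻¹) = k₀ * ((w : G)⁻¹ * k₀) * (w : G)⁻¹ by group,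
      ← hcomm.eq, show k₀ * (k₀ * (w : G)⁻¹) * (w : G)⁻¹ = (k₀ * k₀) * ((w : G) * w)⁻¹ by group, hkk,
      mul_inv_cancel]) with e' | e'
  · exact hk₀N (by rw [mul_inv_eq_one.1 e']; exact w.2)
  · exact hk₀N (by rw [eq_mul_of_mul_inv_eq e']; exact N.mul_mem hp.zN w.2)

end CfsgLib.Partition
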