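import Mathlib
import Cfsg.Prelude.Def_Solvable
import Cfsg.Prelude.Def_Sz
import Cfsg.Agent.Lib.Partition.Socle
import Cfsg.Agent.Lib.Partition.Strong
import Cfsg.Agent.Lib.Partition.Dihedral
import Cfsg.Agent.Lib.Partition.Extension

/-!
# Groups with a non-trivial partition

Baer, Kegel, Suzuki: the classification.
-/

set_option autoImplicit false
set_option linter.unusedSectionVars false
set_option linter.style.haveILetI false

namespace CfsgLib.Partition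

universe u

variable {G : Type u} [Group G] [Finite G]

/-- What the non-solvable analysis gives. -/
def Outcome (G : Type u) [Group G] : Prop :=
  LinearOrSuzuki G ∨
    ∃ (F : Type) (_ : Field F) (_ : Fintype F), 5 ≤ Fintype.card F ∧ Odd (Fintype.card F) ∧
      Nonempty (G ≃* (GL (Fin 2) F ⧸ Subgroup.center (GL (Fin 2) F)))

theorem Hyp.classify {P : Part G} (h : Hyp P) [Nontrivial G] : Outcome G := by
  classical
  haveI : Fact (Nat.Prime 2) := ⟨Nat.prime_two⟩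
  obtain ⟨S⟩ : Nonempty (Sylow 2 G) := inferInstance
  by_cases hβ : ∃ g : G, g ≠ 1 ∧ (S : Subgroup G) ≤ P.comp g
  · obtain ⟨g, hg, hle⟩ := hβ
    exact Or.inl (h.sylow_in_comp S hg hle)
  push Not at hβ
  suffices hD : (∃ z y : G, z * z = 1 ∧ z ≠ 1 ∧ z ∈ (S : Subgroup G) ∧
      (∀ x ∈ (S : Subgroup G), Commute x z) ∧ y ∈ P.comp z ∧ y ≠ 1 ∧ orderOf y ≠ 2) ∨
      Outcome G by
    rcases hD with ⟨z, y, hz, hz1, hzS, hSz, hy, hy1, hy2⟩ | hout
    swap
    · exact hout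
    obtain ⟨N, hN, hNb, hidx, ⟨F, i1, i2, h5, hodd, ⟨e⟩⟩, u, hp⟩ :=
      h.dihedral S hz hz1 hzS hSz hy hy1 hy2 (hβ z hz1)
    haveI := hN
    rcases Nat.lt_or_ge N.index 2 with hlt | hge
    · have h1 : N.index = 1 := by
        have := Nat.pos_of_ne_zero (Subgroup.index_ne_zero_of_finite (H := N))
        omega
      have hNtop : N = ⊤ := Subgroup.index_eq_one.1 h1
      exact Or.inl (Or.inl ⟨F, i1, i2, by omega,
        ⟨((Subgroup.topEquiv).symm.trans (MulEquiv.subgroupCongr hNtop.symm)).trans e⟩⟩)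
    · exact Or.inr ⟨F, i1, i2, h5, hodd, h.index_two hNb (le_antisymm hidx hge) hp h5 hodd e⟩
  by_cases hexp : ∀ x ∈ (S : Subgroup G), x * x = 1
  swap
  · push Not at hexp
    obtain ⟨w, hw, hw2⟩ := hexp
    obtain ⟨z, hzS, hz2, hz1, hzc⟩ := exists_central_involution S.2 (h.sylow_ne_bot S)
    refine Or.inl ⟨z, w, hz2, hz1, hzS, hzc, ?_, fun e => hw2 (by rw [e, one_mul]), fun e => hw2 ?_⟩
    · refine P.mem_of_commute hz1 (hzc w hw).symm ?_
      rw [CfsgLib.Invol.CASimple.involution_iff.2 ⟨hz2, hz1⟩]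
      exact fun e => hw2 (CfsgLib.Invol.CASimple.involution_iff.1 e).1
    · exact (CfsgLib.Invol.CASimple.involution_iff.1 e).1
  by_cases hcit : ∀ t : G, t * t = 1 → t ≠ 1 → IsPGroup 2 (Subgroup.centralizer ({t} : Set G))
  · exact Or.inr (Or.inl (h.sylow_elementary S hexp hcit hβ))
  push Not at hcit
  obtain ⟨t, ht2, ht1, htc⟩ := hcit
  obtain ⟨q, hq, hqd, hq2⟩ : ∃ q, q.Prime ∧
      q ∣ Nat.card (Subgroup.centralizer ({t} : Set G)) ∧ q ≠ 2 := by
    by_contra! hno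
    exact htc (IsPGroup.of_card (Nat.eq_prime_pow_of_unique_prime_dvd Nat.card_pos.ne'
      fun {d} hd hdd => hno d hd hdd))
  haveI := Fact.mk hq
  obtain ⟨⟨y₀, hy₀⟩, hyo⟩ := exists_prime_orderOf_dvd_card' q hqd
  rw [Subgroup.orderOf_mk] at hyo
  obtain ⟨U, hU⟩ := (IsPGroup.of_card (p := 2) (n := 1)
    (by rw [Nat.card_zpowers, CfsgLib.Invol.CASimple.involution_iff.2 ⟨ht2, ht1⟩, pow_one] :
      Nat.card (Subgroup.zpowers t) = 2 ^ 1)).exists_le_sylow
  obtain ⟨c, hc⟩ := MulAction.exists_smul_eq G U S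
  have htS : c * t * c⁻¹ ∈ (S : Subgroup G) := by
    rw [← hc, Sylow.coe_subgroup_smul, Subgroup.mem_pointwise_smul_iff_inv_smul_mem]
    simpa [MulAut.smul_def, mul_assoc] using hU (Subgroup.mem_zpowers t)
  have hzc : ∀ x ∈ (S : Subgroup G), Commute x (c * t * c⁻¹) := fun x hx => by
    have h2 := eq_inv_of_mul_eq_one_left (hexp _ (mul_mem hx htS))
    rw [mul_inv_rev, inv_eq_of_mul_eq_one_right (hexp x hx),
      inv_eq_of_mul_eq_one_right (hexp _ htS)] at h2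
    exact h2
  have ht1' : c * t * c⁻¹ ≠ 1 := fun e => ht1 (conj_eq_one_iff.1 e)
  refine Or.inl ⟨c * t * c⁻¹, c * y₀ * c⁻¹, hexp _ htS, ht1', htS, hzc, ?_, ?_, ?_⟩
  · refine P.mem_of_commute ht1' ?_ ?_
    · have h1 : Commute t y₀ := (Subgroup.mem_centralizer_singleton_iff.1 hy₀).symm
      have h2 := h1.map (MulAut.conj c)
      simpa using h2
    · rw [orderOf_cj, orderOf_cj, hyo, CfsgLib.Invol.CASimple.involution_iff.2 ⟨ht2, ht1⟩]
      exact hq2
  · intro e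
    rw [conj_eq_one_iff.1 e, orderOf_one] at hyo
    exact hq.ne_one hyo.symm
  · rw [orderOf_cj, hyo]; exact hq2

/-- **Groups with a non-trivial partition.** -/
theorem classify (S : Set (Subgroup G)) (hS2 : ∃ H ∈ S, ∃ K ∈ S, H ≠ K)
    (hS1 : ∀ H ∈ S, H ≠ ⊥) (hpart : ∀ g : G, g ≠ 1 → ∃! H : Subgroup G, H ∈ S ∧ g ∈ H) :
    Nonempty (G ≃* Equiv.Perm (Fin 4)) ∨
    (∃ p : ℕ, p.Prime ∧ Subgroup.closure {g : G | g ^ p ≠ 1} ≠ ⊤) ∨
    (∃ H : Subgroup G, Cfsg.IsFrobeniusComplement H) ∨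
    (∃ (F : Type) (_ : Field F) (_ : Fintype F), 4 ≤ Fintype.card F ∧
        Nonempty (G ≃* Matrix.ProjectiveSpecialLinearGroup (Fin 2) F)) ∨
    (∃ (F : Type) (_ : Field F) (_ : Fintype F), 5 ≤ Fintype.card F ∧ Odd (Fintype.card F) ∧
        Nonempty (G ≃* (GL (Fin 2) F ⧸ Subgroup.center (GL (Fin 2) F)))) ∨
    Cfsg.Lie.IsoSuzuki G := by
  obtain ⟨H, hH, hrest⟩ := id hS2
  haveI : Nontrivial G := by
    obtain ⟨⟨x, hxm⟩, hx⟩ := Subgroup.ne_bot_iff_exists_ne_one.1 (hS1 H hH)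
    exact ⟨⟨x, 1, fun e => hx (Subtype.ext e)⟩⟩
  obtain ⟨P⟩ := exists_part S hS2 hS1 hpart
  rcases reduce P with h | h | h
  · exact Or.inl h
  · exact h.elim (fun h => Or.inr (Or.inl h)) fun h => Or.inr (Or.inr (Or.inl h))
  · rcases h.classify with (h | h) | h
    · exact Or.inr (Or.inr (Or.inr (Or.inl h)))
    · exact Or.inr (Or.inr (Or.inr (Or.inr (Or.inr h))))
    · exact Or.inr (Or.inr (Or.inr (Or.inr (Or.inl h))))

end CfsgLib.Partition
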